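import Groth.Agent.H4RepDual.Scalars
import Groth.Agent.H15Site.ModExtH
import Groth.Agent.H10Coh.ToSheaf
import Groth.Agent.H10Coh.SchemeH
import Mathlib.Algebra.Homology.DerivedCategory.Ext.Basic

/-!
# `Hom(O, M[n]) = H^n(X, M)`, naturally
-/

set_option autoImplicit false
set_option linter.style.haveILetI false
set_option backward.isDefEq.respectTransparency false
set_option synthInstance.maxHeartbeats 400000

universe u

open CategoryTheory CategoryTheory.Limits CategoryTheory.Abelian AlgebraicGeometry Opposite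
open Groth.Agent.H10Coh (shF)

attribute [local instance] HasDerivedCategory.standard

namespace Groth.Agent.H4RepDual

attribute [local instance 10000] H10Coh.hasSheafifyAb H10Coh.hasWeakSheafifyAb H10Coh.hasExtAb H10Coh.enoughInjAb

open Groth.Agent.H15Site.ModExtH (oneHom bijective_oneHom tf_constZ)

variable {X : Scheme.{u}}

theorem hasExtModules (X : Scheme.{u}) : HasExt.{u} X.Modules :=
  haveI := H16Derived.KFlat.Stalk.isGrothendieckAbelian_modules (X := X)
  haveI : EnoughInjectives X.Modules := inferInstance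
  hasExt_of_enoughInjectives.{u} X.Modules

instance preservesFiniteLimits_shF : PreservesFiniteLimits (shF X) :=
  inferInstanceAs (PreservesFiniteLimits (SheafOfModules.toSheaf X.ringCatSheaf))

instance preservesFiniteColimits_shF : PreservesFiniteColimits (shF X) :=
  H10Coh.preservesFiniteColimits_toSheaf X.ringCatSheaf

variable [HasExt.{u} X.Modules]

/-- The comparison. -/
noncomputable def toHH (M : X.Modules) (n : ℕ) :
    (DCoh.inD X (Coh.structureModule X) ⟶ (DCoh.inD X M)⟦(n : ℤ)⟧) →+ Coh.HH X M n :=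
  (H10Coh.extMap (shF X) (oneHom X.ringCatSheaf) M n).comp
    (Ext.homAddEquiv (X := Coh.structureModule X) (Y := M) (n := n)).symm.toAddMonoidHom

theorem bijective_toHH (M : X.Modules) (n : ℕ) : Function.Bijective (toHH M n) := by
  haveI := H16Derived.KFlat.Stalk.isGrothendieckAbelian_modules (X := X)
  haveI : EnoughInjectives X.Modules := inferInstance
  exact (H10Coh.extMap_bijective (shF X) (oneHom X.ringCatSheaf)
    (bijective_oneHom X.ringCatSheaf) (fun I _ m => H15Site.ModInjAcyclic.subsingleton_ext X.ringCatSheaf I m _ tf_constZ)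
    n M).comp (Ext.homAddEquiv (X := Coh.structureModule X) (Y := M) (n := n)).symm.bijective

theorem toHH_naturality {M N : X.Modules} (φ : M ⟶ N) (n : ℕ)
    (g : DCoh.inD X (Coh.structureModule X) ⟶ (DCoh.inD X M)⟦(n : ℤ)⟧) :
    toHH N n (g ≫ ((DerivedCategory.singleFunctor X.Modules 0).map φ)⟦(n : ℤ)⟧') =
      Sheaf.H.map ((SheafOfModules.toSheaf X.ringCatSheaf).map φ) n (toHH M n g) := by
  obtain ⟨e, rfl⟩ := (Ext.homAddEquiv (X := Coh.structureModule X) (Y := M) (n := n)).surjective g
  have h : Ext.homAddEquiv e ≫ ((DerivedCategory.singleFunctor X.Modules 0).map φ)⟦(n : ℤ)⟧' =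
      Ext.homAddEquiv (e.comp (Ext.mk₀ φ) (add_zero n)) := by
    rw [Ext.homAddEquiv_apply, Ext.homAddEquiv_apply, Ext.comp_hom, Ext.mk₀_hom]
    exact (ShiftedHom.comp_mk₀ _ _ _ _).symm
  rw [h]
  simp only [toHH, AddMonoidHom.comp_apply, AddEquiv.coe_toAddMonoidHom, AddEquiv.symm_apply_apply]
  exact H10Coh.extMap_naturality _ _ φ n e

end Groth.Agent.H4RepDual
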