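import Groth.Agent.H4RepDual.Main
import Groth.Agent.H7Flat.CohDim.Fibre

/-!
# Bounds for `Rf_*` and its right adjoint in terms of the dimensions of the fibres
-/

set_option autoImplicit false
set_option linter.style.haveILetI false
set_option linter.unusedSectionVars false
set_option backward.isDefEq.respectTransparency false

universe u

open CategoryTheory CategoryTheory.Limits AlgebraicGeometry
open DerivedCategory.TStructure

attribute [local instance] HasDerivedCategory.standard

namespace Groth.Agent.H4RepDual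

open Groth.Agent.H16Derived Groth.Agent.H16Derived.KFlat.Stalk

/-- Direct image of a quasi-coherent module lives in degrees at most the dimension of the fibres. -/
theorem isLE_rpush_inD {X Y : Scheme.{u}} (f : X ⟶ Y) [IsProper f] [DCoh.HasRpush f] (d : ℕ)
    (hd : ∀ y : Y, topologicalKrullDim ↥(f.fiber y) ≤ d) (M : X.Modules) (hM : Coh.IsQCoh M) :
    ((DCoh.Rpush f).obj (DCoh.inD X M)).IsLE d := by
  haveI := QCohD.hasInjectiveResolutions_modules (X := X)
  rw [DerivedCategory.isLE_iff]
  intro m hm
  obtain ⟨p, rfl⟩ := Int.eq_ofNat_of_zero_le (show 0 ≤ m by omega)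
  refine IsZero.of_iso ?_ (QCohD.nonempty_hd_rpush_single f M p).some
  rw [IsZero.iff_id_eq_zero]
  haveI : Coh.IsQCoh M := hM
  exact (H10Coh.shF Y).map_injective
    (((H7Flat.CohDim.isZero_rpushAb f d hd M p (by omega)).of_iso
      (H10Coh.nonempty_toAb_rpush f M p).some).eq_of_src _ _)

/-- The right adjoint raises degrees at most by the dimension of the fibres. -/
theorem isGE_of_bound {X Y : Scheme.{u}} [CompactSpace X] [QuasiSeparatedSpace X] [CompactSpace Y]
    [QuasiSeparatedSpace Y] (f : X ⟶ Y) [QuasiCompact f] [QuasiSeparated f] [DCoh.HasRpush f]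
    (hf : DCoh.RpushPreservesQCoh f) {a : DCoh.DQCoh Y ⥤ DCoh.DQCoh X} (adj : DCoh.RpushQ f hf ⊣ a)
    (d : ℕ) (hbound : ∀ M : X.Modules, Coh.IsQCoh M → ((DCoh.Rpush f).obj (DCoh.inD X M)).IsLE d)
    (T : DCoh.DQCoh Y) (c : ℤ) (hT : T.obj.IsGE c) : (a.obj T).obj.IsGE (c - d) := by
  obtain ⟨m, hm⟩ := LeadBrown.exists_isGE adj T c hT
  by_cases hmd : c - (d : ℤ) ≤ m
  · haveI := hm; exact t.isGE_of_ge (a.obj T).obj (c - d) m hmd
  obtain ⟨k, hk⟩ := Int.eq_ofNat_of_zero_le (show 0 ≤ c - (d : ℤ) - m by omega)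
  induction k generalizing m with
  | zero => omega
  | succ k ih =>
    haveI := hm
    haveI := hT
    have hm1 : (a.obj T).obj.IsGE (m + 1) := by
      obtain ⟨N, j, hj, hj'⟩ := exists_single_incl (a.obj T).obj m
      haveI := hj
      let e : N ≅ DCoh.HD (a.obj T).obj m :=
        ((DerivedCategory.singleFunctorCompHomologyFunctorIso X.Modules m).app N).symm ≪≫
          asIso ((DerivedCategory.homologyFunctor X.Modules m).map j)
      have hN : Coh.IsQCoh N := QCohD.isQCoh_iso e.symm ((a.obj T).property m)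
      let Z : DCoh.D X := (DerivedCategory.singleFunctor X.Modules m).obj N
      let s : (DCoh.inD X N)⟦-m⟧ ≅ Z :=
        ((DerivedCategory.singleFunctors X.Modules).shiftIso (-m) m 0 (by omega)).app N
      have hZ : DCoh.IsQCohD Z := QCohD.isQCohD_iso s
        (QCohD.HomVanish.isQCohD_shift (TorTest.isQCohD_inD hN) _)
      haveI : DerivedCategory.IsLE ((DCoh.Rpush f).obj Z) (d + m) := by
        letI := rpushCommShift f
        haveI := hbound N hN
        haveI : DerivedCategory.IsLE (((DCoh.Rpush f).obj (DCoh.inD X N))⟦-m⟧) (d + m) :=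
          t.isLE_shift _ (d : ℤ) (-m) _ (by omega)
        haveI : DerivedCategory.IsLE ((DCoh.Rpush f ⋙ shiftFunctor (DCoh.D Y) (-m)).obj (DCoh.inD X N)) (d + m) :=
          ‹DerivedCategory.IsLE (((DCoh.Rpush f).obj (DCoh.inD X N))⟦-m⟧) (d + m)›
        exact t.isLE_of_iso ((((DCoh.Rpush f).commShiftIso (-m)).app _).symm ≪≫ (DCoh.Rpush f).mapIso s) _
      have h0 : j = 0 := (LeadBrown.homEquivD adj Z hZ T).injective
        ((t.zero _ (d + m) c (by omega)).trans (t.zero _ (d + m) c (by omega)).symm)
      have hz : IsZero (DCoh.HD (a.obj T).obj m) := by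
        have h1 : (DerivedCategory.homologyFunctor X.Modules m).map j = 0 := by rw [h0, Functor.map_zero]
        rw [IsZero.iff_id_eq_zero]
        refine ((IsIso.inv_hom_id _).symm.trans (congrArg (inv _ ≫ ·) h1)).trans comp_zero
      rw [DerivedCategory.isGE_iff]
      intro i hi
      rcases eq_or_lt_of_le (show i ≤ m by omega) with rfl | h
      · exact hz
      · exact DerivedCategory.isZero_of_isGE (a.obj T).obj m i h
    by_cases h : c - (d : ℤ) ≤ m + 1
    · haveI := hm1; exact t.isGE_of_ge (a.obj T).obj (c - d) (m + 1) h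
    · exact ih (m + 1) hm1 h (by omega)

end Groth.Agent.H4RepDual
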