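import Groth.Agent.H4RepDual.PointScheme
import Groth.Agent.H4RepDual.Bound
import Groth.Agent.H4DualSch.Basic
import Groth.Agent.H05EGA4.FiniteModule
import Groth.Agent.H8Props.Devissage.LocalFibre
import Groth.Agent.H4DR.Dualizing.Gorenstein

/-!
# The dualizing complex of a proper scheme over a field: range and supports
-/

set_option autoImplicit false
set_option linter.style.haveILetI false
set_option linter.unusedSectionVars false
set_option backward.isDefEq.respectTransparency false
set_option maxHeartbeats 1000000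
set_option synthInstance.maxHeartbeats 400000

universe u

open CategoryTheory CategoryTheory.Limits AlgebraicGeometry
open DerivedCategory.TStructure
open Groth.Agent.H4DR.Dualizing (Loc loc)
open Groth.Agent.H4DR.Ext (Ex)

attribute [local instance] HasDerivedCategory.standard

namespace Groth.Agent.H4RepDual

open Groth.Agent.H16Derived Groth.Agent.H16Derived.KFlat.Stalk

/-- Restriction along the identity. -/
theorem nonempty_rd_id {X : Scheme.{u}} (E : DCoh.D X) : Nonempty ((rd (𝟙 X)).obj E ≅ E) := by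
  let C := DerivedCategory.Q.objPreimage E
  let c : DerivedCategory.Q.obj C ≅ E := DerivedCategory.Q.objObjPreimageIso E
  exact ⟨(rd (𝟙 X)).mapIso c.symm ≪≫ (rdQ (𝟙 X)).app C ≪≫
    DerivedCategory.Q.mapIso (show _ ≅ C from HomologicalComplex.Hom.isoOfComponents
      (fun i => Scheme.Modules.restrictFunctorId.app (C.X i))
      fun i j _ => (Scheme.Modules.restrictFunctorId.hom.naturality (C.d i j)).symm) ≪≫ c⟩

variable {k : Type u} [Field k]

theorem isDualizing_field : Dual.IsDualizing k (Dual.inD k k) := by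
  obtain ⟨N, hN⟩ := (H4Goren.isGorensteinLocalRing_of_isRegularLocalRing k).exists_hasInjectiveDimensionLT
  exact H4DR.Dualizing.isDualizing_inD_self N

theorem isNormalized_field : Dual.IsNormalized k (Dual.inD k k) := fun i hi => by
  let r : IsLocalRing.ResidueField k ≃ₗ[k] k :=
    (Submodule.quotEquivOfEq _ _ IsLocalRing.maximalIdeal_eq_bot).trans (Submodule.quotEquivOfEqBot (⊥ : Ideal k) rfl)
  haveI : Subsingleton (Dual.HD k (Dual.inD k k) i) := H4DR.PCoh.subsingleton_HD_inD (ModuleCat.of k k) i hi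
  haveI : Subsingleton (Ex (Dual.inD k k) (Dual.inD k k) i) :=
    (H4DR.Ext.evalEquiv (Dual.inD k k) i).injective.subsingleton
  exact (H4DR.Ext.exCongr r (shiftFunctor (Dual.D k) i |>.obj (Dual.inD k k))).symm.injective.subsingleton

variable {X : Scheme.{u}} (f : X ⟶ Spec (CommRingCat.of k)) [IsProper f] [DCoh.HasRpush f]
  {hf : DCoh.RpushPreservesQCoh f} {a : DCoh.DQCoh (Spec (CommRingCat.of k)) ⥤ DCoh.DQCoh X}
  (adj : DCoh.RpushQ f hf ⊣ a)
  [∀ (U : Scheme.{u}) (j : U ⟶ X) [IsOpenImmersion j], PreservesFiniteLimits (Scheme.Modules.restrictFunctor j)]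
  [∀ (R : CommRingCat.{u}), PreservesFiniteLimits (tilde.functor R)]
  (O : DCoh.DQCoh (Spec (CommRingCat.of k)))
  (eO : O.obj ≅ (DCoh.tildeD (CommRingCat.of k)).obj (Dual.inD k k))

include eO in
theorem isGE_zero_field : O.obj.IsGE 0 := by
  haveI := (isGE_tilde_iff (A := k) (Dual.inD k k) 0).2 inferInstance
  exact t.isGE_of_iso eO.symm 0

include eO in
theorem isCohD_field : DCoh.IsCohD O.obj := fun i => by
  haveI : Module.Finite k ((DerivedCategory.homologyFunctor (ModuleCat.{u} k) i).obj (Dual.inD k k)) :=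
    (isDualizing_field (k := k)).finite_cohomology i
  exact H10Coh.isCoh_of_iso ((show tilde (R := CommRingCat.of k) _ ≅ _ from (hdTilde (Dual.inD k k) i).symm) ≪≫
      (DerivedCategory.homologyFunctor _ i).mapIso eO.symm)
    (@H10Coh.isCoh_tilde (CommRingCat.of k) ((DerivedCategory.homologyFunctor (ModuleCat.{u} k) i).obj (Dual.inD k k)) ‹_›)

include eO in
/-- The structure sheaf is dualizing on a point. -/
theorem isDualizingSch_field
    [∀ (U : Scheme.{u}) (j : U ⟶ Spec (CommRingCat.of k)) [IsOpenImmersion j], PreservesFiniteLimits (Scheme.Modules.restrictFunctor j)] :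
    Dual2.IsDualizingSch (Spec (CommRingCat.of k)) O.obj := by
  haveI : IsLocallyNoetherian (Spec (CommRingCat.of k)) := inferInstance
  refine isDualizingSch_of_closed O.obj (isCohD_field O eO) (isGE_zero_field O eO) (fun {B} _ j _ => ?_) ?_
  · rw [← PrimeSpectrum.topologicalKrullDim_eq_ringKrullDim]
    refine lt_of_le_of_lt j.isOpenEmbedding.isInducing.topologicalKrullDim_le ?_
    change topologicalKrullDim (PrimeSpectrum k) < ⊤
    rw [PrimeSpectrum.topologicalKrullDim_eq_ringKrullDim, ringKrullDim_eq_zero_of_field]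
    exact WithBot.coe_lt_coe.2 (ENat.natCast_lt_top 0)
  · intro C _ _ j' _ ω' e' _ _ q _
    obtain ⟨e⟩ := nonempty_rd_id O.obj
    let z : PrimeSpectrum k := j'.base q
    refine isDualizing_loc_chart O.obj j' (𝟙 (Spec (CommRingCat.of k))) ω' (Dual.inD k k) e' (eO.symm ≪≫ e.symm)
      q z rfl ?_
    exact H4DR.Dualizing.isDualizing_loc isDualizing_field z

include adj eO in
/-- On every chart the support of `H^i` has dimension at most `-i`, and `i ≤ 0`. -/
theorem supportDim_chart {C : Type u} [CommRing C] [IsNoetherianRing C] (j : Spec (CommRingCat.of C) ⟶ X)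
    [IsOpenImmersion j] (ω : Dual.D C) (e : (DCoh.tildeD (CommRingCat.of C)).obj ω ≅ (rd j).obj (a.obj O).obj)
    (hfin : ∀ i : ℤ, Module.Finite C (Dual.HD C ω i)) {c₀ : ℤ} (hlow : ∀ i : ℤ, i < c₀ → Subsingleton (Dual.HD C ω i))
    (i : ℤ) : Module.supportDim C (Dual.HD C ω i) ≤ ((-i).toNat : WithBot ℕ∞) ∧
      (Nontrivial (Dual.HD C ω i) → i ≤ 0) := by
  haveI : JacobsonSpace X := LocallyOfFiniteType.jacobsonSpace f
  have key : ∀ m : PrimeSpectrum C, m.asIdeal.IsMaximal →
      Module.supportDim (Loc m) (LocalizedModule m.asIdeal.primeCompl (Dual.HD C ω i)) ≤ ((-i).toNat : WithBot ℕ∞) ∧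
      (Nontrivial (LocalizedModule m.asIdeal.primeCompl (Dual.HD C ω i)) → i ≤ 0) := by
    intro m hm
    haveI : m.asIdeal.IsMaximal := hm
    have hx : IsClosed ({j.base m} : Set X) := by
      have h1 : m ∈ j.base ⁻¹' closedPoints X := by
        rw [j.isOpenEmbedding.preimage_closedPoints]
        exact (PrimeSpectrum.isClosed_singleton_iff_isMaximal m).2 hm
      exact h1
    obtain ⟨e₀⟩ := nonempty_rd_id O.obj
    obtain ⟨ψ', n, hvan, hd, hn⟩ := exists_point_residue f adj O j ω e m hx (𝟙 (Spec (CommRingCat.of k)))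
      (f.base (j.base m)) rfl (Dual.inD k k) isDualizing_field (eO.symm ≪≫ e₀.symm)
    letI := Ideal.Quotient.field m.asIdeal
    haveI : IsLocalHom ψ' := ⟨fun x hxu => isUnit_iff_ne_zero.2 fun h0 => by simp [h0] at hxu⟩
    obtain rfl := hn isNormalized_field
    obtain ⟨hdual, hres⟩ := isDualizing_loc_of_residue m hfin hlow 0 hvan hd
    haveI : Module.Flat C (Loc m) := IsLocalization.flat _ m.asIdeal.primeCompl
    haveI : IsNoetherianRing (Loc m) := IsLocalization.isNoetherianRing m.asIdeal.primeCompl (Loc m) ‹_›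
    obtain ⟨h1, h2⟩ := H4DR.Dualizing.dimBound hdual hres (Loc m) i
    let t := (LocalizedModule.equivTensorProduct m.asIdeal.primeCompl (Dual.HD C ω i)).trans
      ((H4DR.FlatBC.hBC (Loc m) i ω).symm)
    rw [Module.supportDim_eq_of_equiv (H4DR.Ext.evalEquiv (loc ω m) i)] at h1
    refine ⟨(Module.supportDim_eq_of_equiv t).trans_le h1, fun hne => ?_⟩
    haveI := t.toEquiv.nontrivial_congr.1 hne
    exact (h2 (H4DR.Ext.evalEquiv (loc ω m) i).toEquiv.nontrivial).2
  refine ⟨iSup_le fun l => ?_, fun hne => ?_⟩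
  · obtain ⟨M, hM, hle⟩ := (l.last).1.asIdeal.exists_le_maximal (l.last).1.2.ne_top
    exact (H05EGA4.FiniteModule.le_supportDim_localization M
      (LTSeries.mk l.length (fun i => (l i).1) fun _ _ h => l.strictMono h) (fun i => (l i).2) hle).trans
      (key ⟨M, hM.isPrime⟩ hM).1
  · obtain ⟨p, hp⟩ := Module.nonempty_support_of_nontrivial (R := C) (M := Dual.HD C ω i)
    obtain ⟨M, hM, hle⟩ := p.asIdeal.exists_le_maximal p.2.ne_top
    haveI := hM.isPrime
    exact (key ⟨M, hM.isPrime⟩ hM).2 (Module.mem_support_iff.1 (Module.mem_support_mono (p := p)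
      (q := ⟨M, hM.isPrime⟩) hle hp))

include adj eO in
/-- Range and dimension of supports. -/
theorem range_and_supports (d : ℕ) (hd : topologicalKrullDim X ≤ (d : WithBot ℕ∞)) :
    (∀ i : ℤ, (i < -(d : ℤ) ∨ 0 < i) → IsZero (DCoh.HD (a.obj O).obj i)) ∧
    ∀ (i : ℤ) (n : ℕ), (n : ℤ) = -i →
      topologicalKrullDim {x : X | Nontrivial ((DCoh.HD (a.obj O).obj i).presheaf.stalk x)} ≤ (n : WithBot ℕ∞) := by
  haveI : CompactSpace X := QuasiCompact.compactSpace_of_compactSpace f
  haveI : QuasiSeparatedSpace X := quasiSeparatedSpace_of_quasiSeparated f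
  haveI : IsLocallyNoetherian X := LocallyOfFiniteType.isLocallyNoetherian f
  have hbound : ∀ M : X.Modules, Coh.IsQCoh M → ((DCoh.Rpush f).obj (DCoh.inD X M)).IsLE d :=
    isLE_rpush_inD f d fun y => (f.fiberι y).isEmbedding.isInducing.topologicalKrullDim_le.trans hd
  have hge : (a.obj O).obj.IsGE (-(d : ℤ)) := by
    simpa using isGE_of_bound f hf adj d hbound O 0 (isGE_zero_field O eO)
  have hcoh : DCoh.IsCohD (a.obj O).obj :=
    LeadBrown.isCohD_rightAdjoint f adj O 0 (isGE_zero_field O eO) (isCohD_field O eO)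
  have hchart : ∀ x : X, ∃ (C : Type u) (_ : CommRing C) (j : Spec (CommRingCat.of C) ⟶ X) (_ : IsOpenImmersion j)
      (ω : Dual.D C), x ∈ Set.range j.base ∧ ∀ (i : ℤ) (q : PrimeSpectrum C),
        (Nontrivial ((DCoh.HD (a.obj O).obj i).presheaf.stalk (j.base q)) ↔ q ∈ Module.support C (Dual.HD C ω i)) ∧
        Module.supportDim C (Dual.HD C ω i) ≤ ((-i).toNat : WithBot ℕ∞) ∧
        (Nontrivial (Dual.HD C ω i) → i ≤ 0) ∧ Module.Finite C (Dual.HD C ω i) := fun x => by
    obtain ⟨C, _, j, _, hx⟩ : ∃ (C : Type u) (_ : CommRing C) (j : Spec (CommRingCat.of C) ⟶ X)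
        (_ : IsOpenImmersion j), x ∈ Set.range j.base :=
      ⟨_, inferInstance, X.affineCover.f (X.affineCover.idx x),
        inferInstanceAs (IsOpenImmersion (X.affineCover.f (X.affineCover.idx x))), X.affineCover.covers x⟩
    haveI : IsNoetherianRing C := isLocallyNoetherian_Spec.1 (isLocallyNoetherian_of_isOpenImmersion j)
    obtain ⟨ω, ⟨e⟩, hfin, hlow⟩ := exists_chart_model j (a.obj O).obj hcoh _ hge
    exact ⟨C, _, j, ‹_›, ω, hx, fun i q => ⟨H4DualSch.nontrivial_stalk_HD_iff j (a.obj O).obj ω e.symm q i,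
      (supportDim_chart f adj O eO j ω e hfin hlow i).1, (supportDim_chart f adj O eO j ω e hfin hlow i).2, hfin i⟩⟩
  refine ⟨fun i hi => ?_, fun i n hn => ?_⟩
  · rcases hi with hi | hi
    · haveI := hge
      exact DerivedCategory.isZero_of_isGE _ _ i hi
    · refine H17.FPExt.isZero_of_stalk _ fun x => not_nontrivial_iff_subsingleton.1 fun hne => ?_
      obtain ⟨C, _, j, _, ω, ⟨q, rfl⟩, h⟩ := hchart x
      haveI : Nontrivial (Dual.HD C ω i) := not_subsingleton_iff_nontrivial.1 fun hs =>
        Set.notMem_empty q ((Module.support_eq_empty_iff (R := C) (M := Dual.HD C ω i)).2 hs ▸ (h i q).1.1 hne)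
      exact absurd ((h i q).2.2.1 ‹_›) (by omega)
  · refine S1416.dim_le_of_cover _ fun x => ?_
    obtain ⟨C, _, j, _, ω, ⟨q₀, hq₀⟩, h⟩ := hchart x.1
    refine ⟨Subtype.val ⁻¹' Set.range j.base, j.isOpenEmbedding.isOpen_range.preimage continuous_subtype_val,
      ⟨q₀, hq₀⟩, ?_⟩
    haveI := (h i q₀).2.2.2
    choose q hq using fun w : (Subtype.val ⁻¹' Set.range j.base :
      Set {x : X | Nontrivial ((DCoh.HD (a.obj O).obj i).presheaf.stalk x)}) => w.2
    let g : _ → Module.support C (Dual.HD C ω i) := fun w => ⟨q w, (h i (q w)).1.1 (by rw [hq w]; exact w.1.2)⟩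
    have hcomp : (fun v : Module.support C (Dual.HD C ω i) => j.base v.1) ∘ g = fun w => w.1.1 := funext hq
    have hj : Topology.IsInducing (fun v : Module.support C (Dual.HD C ω i) => j.base v.1) :=
      j.isOpenEmbedding.isInducing.comp Topology.IsInducing.subtypeVal
    have hval : Topology.IsInducing ((fun v : Module.support C (Dual.HD C ω i) => j.base v.1) ∘ g) := by
      rw [hcomp]; exact Topology.IsInducing.subtypeVal.comp Topology.IsInducing.subtypeVal
    have hg : Topology.IsInducing g :=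
      Topology.IsInducing.of_comp (hj.continuous_iff.2 hval.continuous) hj.continuous hval
    refine hg.topologicalKrullDim_le.trans ?_
    rw [← H8Props.Devissage.supportDim_eq_topologicalKrullDim]
    refine (h i q₀).2.1.trans (le_of_eq ?_)
    rw [show (-i).toNat = n by omega]

end Groth.Agent.H4RepDual
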