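import Groth.Agent.H4DR.Dualizing.Pointwise
import Groth.Agent.H4DR.Dualizing.Criterion

/-!
# Dualizing complexes at a prime: residue criterion and change of chart
-/

set_option autoImplicit false
set_option linter.style.haveILetI false
set_option linter.unusedSectionVars false
set_option backward.isDefEq.respectTransparency false

universe u

open CategoryTheory CategoryTheory.Limits TensorProduct
open Groth.Agent.H4DR Groth.Agent.H4DR.Dualizing Groth.Agent.H4DR.Ext
open Groth.Agent.H4DR.Ext (Ex)
open Groth.Agent.H4DR.FlatBC (F FD exBC hBC toFₗ)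

attribute [local instance] HasDerivedCategory.standard

namespace Groth.Agent.H4RepDual

section Comp

variable {A B C : Type u} [CommRing A] [CommRing B] [CommRing C] [Algebra A B] [Algebra B C] [Algebra A C]
  [IsScalarTower A B C] [Module.Flat A B] [Module.Flat B C] [Module.Flat A C]

/-- Base changes compose. -/
theorem nonempty_FD_comp (K : Dual.D A) : Nonempty ((FD B C).obj ((FD A B).obj K) ≅ (FD A C).obj K) := by
  let e : F A C ≅ F A B ⋙ F B C :=
    eqToIso (congrArg (fun f : A →+* C => ModuleCat.extendScalars.{u, u, u} f) (IsScalarTower.algebraMap_eq A B C)) ≪≫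
      ModuleCat.extendScalarsComp (algebraMap A B) (algebraMap B C)
  let X := DerivedCategory.Q.objPreimage K
  let c : DerivedCategory.Q.obj X ≅ K := DerivedCategory.Q.objObjPreimageIso K
  exact ⟨(FD B C).mapIso ((FD A B).mapIso c.symm ≪≫ (F A B).mapDerivedCategoryFactors.app X) ≪≫
    (F B C).mapDerivedCategoryFactors.app _ ≪≫
    DerivedCategory.Q.mapIso (show _ ≅ ((F A C).mapHomologicalComplex (ComplexShape.up ℤ)).obj X from
      HomologicalComplex.Hom.isoOfComponents (fun i => (e.app (X.X i)).symm)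
        fun i j _ => (e.inv.naturality (X.d i j)).symm) ≪≫
    ((F A C).mapDerivedCategoryFactors.app X).symm ≪≫ (FD A C).mapIso c⟩

/-- A dualizing complex after a first localization stays dualizing after a second. -/
theorem isDualizing_FD_trans [IsNoetherianRing C] (S : Submonoid B) [IsLocalization S C] (K : Dual.D A)
    [IsNoetherianRing B] (h : Dual.IsDualizing B ((FD A B).obj K)) : Dual.IsDualizing C ((FD A C).obj K) :=
  Dualizing.isDualizing_of_iso (nonempty_FD_comp (B := B) K).some (FlatBC.isDualizing_localization S h)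

end Comp

variable {B : Type u} [CommRing B] [IsNoetherianRing B] {ω : Dual.D B}

/-- The residue criterion at a maximal ideal. -/
theorem isDualizing_loc_of_residue (m : PrimeSpectrum B) (hfin : ∀ i : ℤ, Module.Finite B (Dual.HD B ω i))
    {a : ℤ} (ha : ∀ i : ℤ, i < a → Subsingleton (Dual.HD B ω i)) (n : ℤ)
    (hvan : ∀ i : ℤ, i ≠ n → Subsingleton (Ex (Dual.inD B (B ⧸ m.asIdeal)) ω i))
    (hd : Nonempty (Ex (Dual.inD B (B ⧸ m.asIdeal)) ω n ≃ₗ[B] B ⧸ m.asIdeal)) :
    Dual.IsDualizing (Loc m) (loc ω m) ∧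
      ∀ i : ℤ, i ≠ n → Subsingleton (Ex (Dual.inD (Loc m) (IsLocalRing.ResidueField (Loc m))) (loc ω m) i) := by
  haveI : Module.Flat B (Loc m) := IsLocalization.flat _ m.asIdeal.primeCompl
  haveI : IsNoetherianRing (Loc m) := IsLocalization.isNoetherianRing m.asIdeal.primeCompl (Loc m) ‹_›
  let J : Ideal (Loc m) := m.asIdeal.map (algebraMap B (Loc m))
  have hJ : J = IsLocalRing.maximalIdeal (Loc m) := Localization.AtPrime.map_eq_maximalIdeal
  let q : ((Loc m) ⊗[B] (B ⧸ m.asIdeal)) ≃ₗ[Loc m] (Loc m ⧸ J) :=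
    (Algebra.TensorProduct.quotIdealMapEquivTensorQuot (Loc m) m.asIdeal).toLinearEquiv.symm
  let e : ∀ i : ℤ, Loc m ⊗[B] Ex (Dual.inD B (B ⧸ m.asIdeal)) ω i ≃ₗ[Loc m]
      Ex (Dual.inD (Loc m) (IsLocalRing.ResidueField (Loc m))) (loc ω m) i := fun i =>
    ((FlatBC.exBC (FlatBC.bij_module_of_bounded (B := Loc m) (W := ω⟦i⟧) (a := a - i)
        (FlatBC.subsingleton_HD_shift ha i) (B ⧸ m.asIdeal))).trans
      (Ext.preIso (((F B (Loc m)).mapDerivedCategorySingleFunctor 0).app (ModuleCat.of B (B ⧸ m.asIdeal))).symm _)).trans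
      (Ext.exCongr ((Ideal.quotientEquivAlgOfEq (Loc m) hJ.symm).toLinearEquiv.trans
        ((Algebra.TensorProduct.quotIdealMapEquivTensorQuot (Loc m) m.asIdeal).toLinearEquiv.trans
          (toFₗ (Loc m) (ModuleCat.of B (B ⧸ m.asIdeal))))) _)
  have hv : ∀ i : ℤ, i ≠ n → Subsingleton (Ex (Dual.inD (Loc m) (IsLocalRing.ResidueField (Loc m))) (loc ω m) i) :=
    fun i hi => haveI := hvan i hi; (e i).symm.injective.subsingleton
  refine ⟨isDualizing_of_residueField (loc ω m) (FlatBC.finite_HD_FD hfin)
    ⟨a, fun i hi => FlatBC.subsingleton_HD_FD (ha i hi)⟩ n (fun i hi => ?_) ?_, hv⟩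
  · exact hv i hi
  · obtain ⟨ed⟩ := hd
    exact ⟨(e n).symm.trans ((AlgebraTensorModule.congr (LinearEquiv.refl (Loc m) (Loc m)) ed).trans
      (q.trans (Ideal.quotientEquivAlgOfEq (Loc m) hJ).toLinearEquiv))⟩

/-- Generizations. -/
theorem isDualizing_loc_of_le {p m : PrimeSpectrum B} (hle : p ≤ m) (h : Dual.IsDualizing (Loc m) (loc ω m)) :
    Dual.IsDualizing (Loc p) (loc ω p) := by
  have hS : m.asIdeal.primeCompl ≤ p.asIdeal.primeCompl := fun x hx hxp => hx (hle hxp)
  letI := IsLocalization.localizationAlgebraOfSubmonoidLe (Loc m) (Loc p) m.asIdeal.primeCompl p.asIdeal.primeCompl hS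
  haveI := IsLocalization.localization_isScalarTower_of_submonoid_le (Loc m) (Loc p) m.asIdeal.primeCompl
    p.asIdeal.primeCompl hS
  haveI := IsLocalization.isLocalization_of_submonoid_le (Loc m) (Loc p) m.asIdeal.primeCompl p.asIdeal.primeCompl hS
  haveI : Module.Flat B (Loc m) := IsLocalization.flat _ m.asIdeal.primeCompl
  haveI : Module.Flat B (Loc p) := IsLocalization.flat _ p.asIdeal.primeCompl
  haveI : Module.Flat (Loc m) (Loc p) :=
    IsLocalization.flat _ (p.asIdeal.primeCompl.map (algebraMap B (Loc m)))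
  haveI : IsNoetherianRing (Loc p) := IsLocalization.isNoetherianRing p.asIdeal.primeCompl (Loc p) ‹_›
  haveI : IsNoetherianRing (Loc m) := IsLocalization.isNoetherianRing m.asIdeal.primeCompl (Loc m) ‹_›
  exact isDualizing_FD_trans (p.asIdeal.primeCompl.map (algebraMap B (Loc m))) ω h

/-- Change of chart: two rings with a common localization at the point. -/
theorem isDualizing_loc_transfer {C D : Type u} [CommRing C] [CommRing D] [IsNoetherianRing C]
    [Algebra B D] [Algebra C D] [Module.Flat B D] [Module.Flat C D] {ω' : Dual.D C}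
    (e : (FD B D).obj ω ≅ (FD C D).obj ω') (P : PrimeSpectrum D)
    (hB : IsLocalization.AtPrime (Localization.AtPrime P.asIdeal) (P.asIdeal.under B))
    (hC : IsLocalization.AtPrime (Localization.AtPrime P.asIdeal) (P.asIdeal.under C))
    (h : Dual.IsDualizing (Loc (PrimeSpectrum.comap (algebraMap C D) P))
      (loc ω' (PrimeSpectrum.comap (algebraMap C D) P))) :
    Dual.IsDualizing (Loc (PrimeSpectrum.comap (algebraMap B D) P))
      (loc ω (PrimeSpectrum.comap (algebraMap B D) P)) := by
  let L := Localization.AtPrime P.asIdeal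
  let p := PrimeSpectrum.comap (algebraMap B D) P
  let q := PrimeSpectrum.comap (algebraMap C D) P
  haveI : IsLocalization.AtPrime L p.asIdeal := hB
  haveI : IsLocalization.AtPrime L q.asIdeal := hC
  haveI : IsNoetherianRing L := IsLocalization.isNoetherianRing p.asIdeal.primeCompl L ‹_›
  haveI : Module.Flat B L := IsLocalization.flat _ p.asIdeal.primeCompl
  haveI : Module.Flat C L := IsLocalization.flat _ q.asIdeal.primeCompl
  haveI : Module.Flat D L := IsLocalization.flat _ P.asIdeal.primeCompl
  haveI : Module.Flat B (Loc p) := IsLocalization.flat _ p.asIdeal.primeCompl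
  haveI : Module.Flat C (Loc q) := IsLocalization.flat _ q.asIdeal.primeCompl
  haveI : IsNoetherianRing (Loc p) := IsLocalization.isNoetherianRing p.asIdeal.primeCompl (Loc p) ‹_›
  haveI : IsNoetherianRing (Loc q) := IsLocalization.isNoetherianRing q.asIdeal.primeCompl (Loc q) ‹_›
  have hq : Dual.IsDualizing L ((FD C L).obj ω') := by
    let σ := IsLocalization.algEquiv q.asIdeal.primeCompl (Loc q) L
    haveI : IsLocalization (⊥ : Submonoid (Loc q)) (Loc q) := IsLocalization.self fun x hx => by
      rw [Submonoid.mem_bot.1 hx]; exact isUnit_one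
    letI : Algebra (Loc q) L := σ.toRingEquiv.toRingHom.toAlgebra
    haveI : IsScalarTower C (Loc q) L := IsScalarTower.of_algebraMap_eq fun x => (σ.commutes x).symm
    haveI : IsLocalization (⊥ : Submonoid (Loc q)) L :=
      IsLocalization.isLocalization_of_algEquiv (⊥ : Submonoid (Loc q))
        (AlgEquiv.ofRingEquiv (R := Loc q) (f := σ.toRingEquiv) fun x => rfl)
    haveI : Module.Flat (Loc q) L := IsLocalization.flat _ (⊥ : Submonoid (Loc q))
    exact isDualizing_FD_trans (⊥ : Submonoid (Loc q)) ω' h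
  have hp : Dual.IsDualizing L ((FD B L).obj ω) :=
    Dualizing.isDualizing_of_iso (((nonempty_FD_comp (B := D) (C := L) ω').some.symm ≪≫
      (FD D L).mapIso e.symm) ≪≫ (nonempty_FD_comp (B := D) (C := L) ω).some) hq
  let σ := IsLocalization.algEquiv p.asIdeal.primeCompl L (Loc p)
  haveI : IsLocalization (⊥ : Submonoid L) L := IsLocalization.self fun x hx => by
    rw [Submonoid.mem_bot.1 hx]; exact isUnit_one
  letI : Algebra L (Loc p) := σ.toRingEquiv.toRingHom.toAlgebra
  haveI : IsScalarTower B L (Loc p) := IsScalarTower.of_algebraMap_eq fun x => (σ.commutes x).symm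
  haveI : IsLocalization (⊥ : Submonoid L) (Loc p) :=
    IsLocalization.isLocalization_of_algEquiv (⊥ : Submonoid L)
      (AlgEquiv.ofRingEquiv (R := L) (f := σ.toRingEquiv) fun x => rfl)
  haveI : Module.Flat L (Loc p) := IsLocalization.flat _ (⊥ : Submonoid L)
  exact isDualizing_FD_trans (⊥ : Submonoid L) ω hp

end Groth.Agent.H4RepDual
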