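import Groth.Agent.H4DR.Dualizing.FiniteMap

/-!
# The residue condition from a dualizing complex on the residue field
-/

set_option autoImplicit false
set_option linter.style.haveILetI false
set_option linter.unusedSectionVars false

universe u

open CategoryTheory CategoryTheory.Limits
open Groth.Agent.H4DR Groth.Agent.H4DR.Dualizing Groth.Agent.H4DR.Ext
open Groth.Agent.H4DR.Ext (Ex)
open Groth.Agent.H26Dual2 (reF TD)

attribute [local instance] HasDerivedCategory.standard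

namespace Groth.Agent.H4RepDual

variable {B k : Type u} [CommRing B] [Field k] {ψ : B →+* k} {R : Dual.D B ⥤ Dual.D k}

/-- `RHom_B(k, ω)` dualizing over `k` is the residue condition at the kernel. -/
theorem residue_of_dualizing (adj : DRing.restrictD ψ ⊣ R) (hψ : Function.Surjective ψ) (ω : Dual.D B)
    (hR : Dual.IsDualizing k (R.obj ω)) :
    ∃ n : ℤ, (∀ i : ℤ, i ≠ n → Subsingleton (Ex (Dual.inD B (B ⧸ RingHom.ker ψ)) ω i)) ∧
      Nonempty (Ex (Dual.inD B (B ⧸ RingHom.ker ψ)) ω n ≃ₗ[B] B ⧸ RingHom.ker ψ) ∧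
      (Dual.IsNormalized k (R.obj ω) → n = 0) := by
  classical
  haveI : (⊥ : Ideal k).IsMaximal := Ideal.bot_isMaximal
  obtain ⟨n, hvan, ⟨e⟩⟩ := exists_degree hR (⊥ : Ideal k)
  let kk : (k ⧸ (⊥ : Ideal k)) ≃ₗ[k] k := Submodule.quotEquivOfEqBot (⊥ : Ideal k) rfl
  letI := Module.compHom k ψ
  let ι₀ : (B ⧸ RingHom.ker ψ) →ₗ[B] k := Submodule.liftQ _
    ({ toFun := ψ, map_add' := map_add ψ, map_smul' := fun b x => map_mul ψ b x } : B →ₗ[B] k) fun b hb => hb
  have hι : Function.Bijective ι₀ := by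
    refine ⟨(injective_iff_map_eq_zero _).2 fun x => Submodule.Quotient.induction_on _ x fun b hb =>
      Ideal.Quotient.eq_zero_iff_mem.2 hb, fun y => ?_⟩
    obtain ⟨b, rfl⟩ := hψ y
    exact ⟨Submodule.Quotient.mk b, rfl⟩
  let ι := LinearEquiv.ofBijective ι₀ hι
  let π : ∀ i : ℤ, Ex ((DRing.restrictD ψ).obj (Dual.inD k k)) ω i ≃ₗ[B]
      Ex (Dual.inD B (B ⧸ RingHom.ker ψ)) ω i := fun i =>
    (Ext.preIso (((reF ψ).mapDerivedCategorySingleFunctor 0).app (ModuleCat.of k k)).symm _).trans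
      (Ext.exCongr ι _)
  let eK : ∀ i : ℤ, Ex (Dual.inD k k) (R.obj ω) i ≃ₗ[k] Ex (Dual.inD k (k ⧸ (⊥ : Ideal k))) (R.obj ω) i := fun i =>
    Ext.exCongr kk _
  let ξ : ∀ i : ℤ, Ex (Dual.inD k k) (R.obj ω) i ≃ Ex (Dual.inD B (B ⧸ RingHom.ker ψ)) ω i := fun i =>
    (exAdj adj (Dual.inD k k) ω i).trans (π i).toEquiv
  have hξ : ∀ i (b : B) f, ξ i (ψ b • f) = b • ξ i f := fun i b f => by
    show π i (exAdj adj _ ω i (ψ b • f)) = b • π i (exAdj adj _ ω i f)
    rw [exAdj_smul, map_smul]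
  refine ⟨n, fun i hi => ?_, ?_, fun hn => ?_⟩
  · haveI := hvan i hi
    exact @Equiv.subsingleton _ _ (ξ i).symm ((eK i).injective.subsingleton)
  · let θ : Ex (Dual.inD k k) (R.obj ω) n ≃ₗ[k] k := (eK n).trans (e.trans kk)
    let v := ξ n (θ.symm 1)
    let L : B →ₗ[B] Ex (Dual.inD B (B ⧸ RingHom.ker ψ)) ω n := LinearMap.toSpanSingleton B _ v
    have hL : ∀ b, L b = ξ n (θ.symm (ψ b)) := fun b => by
      show b • ξ n (θ.symm 1) = _
      rw [← hξ, ← map_smul, smul_eq_mul, mul_one]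
    have hker : LinearMap.ker L = RingHom.ker ψ := Submodule.ext fun b => by
      rw [LinearMap.mem_ker, RingHom.mem_ker, ← map_zero L, hL, hL, map_zero ψ]
      exact ⟨fun h => θ.symm.injective ((ξ n).injective h), fun h => by rw [h]⟩
    have hsurj : Function.Surjective L := fun y => by
      obtain ⟨c, rfl⟩ := (θ.symm.toEquiv.trans (ξ n)).surjective y
      obtain ⟨b, rfl⟩ := hψ c
      exact ⟨b, hL b⟩
    exact ⟨((Submodule.quotEquivOfEq _ _ hker.symm).trans (L.quotKerEquivOfSurjective hsurj)).symm⟩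
  · by_contra h0
    haveI : Subsingleton (Ex (Dual.inD k (IsLocalRing.ResidueField k)) (R.obj ω) n) := hn n h0
    let r : IsLocalRing.ResidueField k ≃ₗ[k] k ⧸ (⊥ : Ideal k) :=
      Submodule.quotEquivOfEq _ _ IsLocalRing.maximalIdeal_eq_bot
    haveI : Subsingleton (Ex (Dual.inD k (k ⧸ (⊥ : Ideal k))) (R.obj ω) n) :=
      (Ext.exCongr r _).injective.subsingleton
    exact not_subsingleton k (kk.symm.trans e.symm).injective.subsingleton

end Groth.Agent.H4RepDual
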