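import Groth.Agent.H4RepDual.PointDual
import Groth.Agent.H4RepDual.PointRes
import Groth.Agent.H4RepDual.PointLoc
import Groth.Agent.H4DR.Dualizing.Dimension
import Groth.Agent.H4DR.Dualizing.GorensteinFibre
import Groth.Agent.H05EGA4.QFLocal
import Groth.Agent.H8Props.FinLocFree.Global
import Groth.Agent.H10Coh.FinType2
import Groth.Agent.LeadBrown.Coherent
import Groth.Agent.S1416
import Groth.Prelude.Def_DualSch

/-!
# The right adjoint of a proper direct image preserves dualizing complexes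
-/

set_option autoImplicit false
set_option linter.style.haveILetI false
set_option linter.unusedSectionVars false
set_option backward.isDefEq.respectTransparency false
set_option maxHeartbeats 1000000
set_option synthInstance.maxHeartbeats 400000

universe u

open CategoryTheory CategoryTheory.Limits AlgebraicGeometry
open DerivedCategory.TStructure
open Groth.Agent.H4DR.Dualizing (Loc loc)

attribute [local instance] HasDerivedCategory.standard

namespace Groth.Agent.H4RepDual

open Groth.Agent.H16Derived Groth.Agent.H16Derived.KFlat.Stalk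

section Model

variable {X : Scheme.{u}} {B : Type u} [CommRing B] (j : Spec (CommRingCat.of B) ⟶ X) [IsOpenImmersion j]
  [PreservesFiniteLimits (tilde.functor (CommRingCat.of B))]

/-- A coherent bounded below object is, on a chart, a module complex with finite cohomology. -/
theorem exists_chart_model [IsLocallyNoetherian X] (E : DCoh.D X) (hE : DCoh.IsCohD E) (c : ℤ) (hc : E.IsGE c) :
    ∃ ω : Dual.D B, Nonempty ((DCoh.tildeD (CommRingCat.of B)).obj ω ≅ (rd j).obj E) ∧
      (∀ i : ℤ, Module.Finite B (Dual.HD B ω i)) ∧ ∀ i : ℤ, i < c → Subsingleton (Dual.HD B ω i) := by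
  obtain ⟨ω, ⟨e⟩⟩ := QCohD.exists_tildeD_iso (R := CommRingCat.of B) (QCohD.isQCohD_rd j fun i => (hE i).1)
  refine ⟨ω, ⟨e⟩, fun i => ?_, fun i hi => ?_⟩
  · let N := (DerivedCategory.homologyFunctor (ModuleCat.{u} B) i).obj ω
    have h1 : Coh.IsCoh (tilde (R := CommRingCat.of B) N) := H10Coh.isCoh_of_iso
      ((homologyRdIso j E i).symm ≪≫ (DerivedCategory.homologyFunctor _ i).mapIso e.symm ≪≫
        (show _ ≅ tilde (R := CommRingCat.of B) N from hdTilde ω i))
      (H10Coh.isCoh_restrict j _ (hE i))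
    haveI : (tilde (R := CommRingCat.of B) N).IsQuasicoherent := h1.1
    haveI := H10Coh.finite_sections (tilde (R := CommRingCat.of B) N) h1.2 (isAffineOpen_top (Spec (CommRingCat.of B)))
    exact (H8Props.FinLocFree.finite_top_iff (M := N)).1 ‹_›
  · have h1 : DerivedCategory.IsGE ((DCoh.tildeD (CommRingCat.of B)).obj ω) c := by
      haveI : DerivedCategory.IsGE ((rd j).obj E) c := LeadBrown.isGE_rd' j E c hc
      exact t.isGE_of_iso e.symm c
    haveI := (isGE_tilde_iff ω c).1 h1
    exact ModuleCat.subsingleton_of_isZero (DerivedCategory.isZero_of_isGE ω c i hi)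

end Model

/-- Coherence is detected on charts. -/
theorem isCohD_of_charts {X : Scheme.{u}} [IsLocallyNoetherian X] {E : DCoh.D X} (hq : DCoh.IsQCohD E)
    (h : ∀ x : X, ∃ (A : Type u) (_ : CommRing A) (c : Spec (CommRingCat.of A) ⟶ X) (_ : IsOpenImmersion c),
      x ∈ c.opensRange ∧ ∀ i : ℤ, Coh.IsCoh ((Scheme.Modules.restrictFunctor c).obj (DCoh.HD E i))) :
    DCoh.IsCohD E := by
  intro m
  choose A iA c hc hx hcoh using h
  refine ⟨hq m, (@H10Coh.isFT_isFP_of_affineCover _ _ (hq m) X (fun x => (c x) ''ᵁ ⊤) ?_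
    (fun x => ((c x).isAffineOpen_iff_of_isOpenImmersion).2 (isAffineOpen_top _)) fun x => ?_).1⟩
  · exact TopologicalSpace.IsOpenCover.mk (top_unique fun x _ => TopologicalSpace.Opens.mem_iSup.2 ⟨x, by
      rw [Scheme.Hom.image_top_eq_opensRange]; exact hx x⟩)
  · exact (H10Coh.finite_restrict_iff (c x) (DCoh.HD E m) _).1
      (((H10Coh.isCoh_iff_finite_sections _).1 (hcoh x m)).2 _ (isAffineOpen_top _))

section Transition

variable {X : Scheme.{u}} [∀ (R : CommRingCat.{u}), PreservesFiniteLimits (tilde.functor R)]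

/-- Models on two rings with a common open. -/
theorem nonempty_FD_of_open {B D : Type u} [CommRing B] [CommRing D] [Algebra B D] [Module.Flat B D]
    (j : Spec (CommRingCat.of B) ⟶ X) [IsOpenImmersion j] (l : Spec (CommRingCat.of D) ⟶ X) [IsOpenImmersion l]
    [IsOpenImmersion (Spec.map (CommRingCat.ofHom (algebraMap B D)))]
    (hl : Spec.map (CommRingCat.ofHom (algebraMap B D)) ≫ j = l) (E : DCoh.D X) (ω : Dual.D B)
    (e : (DCoh.tildeD (CommRingCat.of B)).obj ω ≅ (rd j).obj E) :
    Nonempty ((DCoh.tildeD (CommRingCat.of D)).obj ((H4DR.FlatBC.FD B D).obj ω) ≅ (rd l).obj E) := by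
  let u := Spec.map (CommRingCat.ofHom (algebraMap B D))
  haveI := hasLpull u
  haveI := H4DR.TorAmp.hasLBaseChange (algebraMap B D)
  obtain ⟨a⟩ := QCohD.lpull_openImmersion u ((DCoh.tildeD (CommRingCat.of B)).obj ω)
  exact ⟨(DCoh.tildeD (CommRingCat.of D)).mapIso (H4DR.FlatBC.lbaseIso ω).symm ≪≫
    (QCohD.lpullTildeIso (algebraMap B D)).app ω ≪≫ a ≪≫ (rd u).mapIso e ≪≫
    (rdComp u j l hl E).symm⟩

/-- Being dualizing at a point does not depend on the chart. -/
theorem isDualizing_loc_chart (E : DCoh.D X) {B C : Type u} [CommRing B] [CommRing C] [IsNoetherianRing B]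
    [IsNoetherianRing C] (j : Spec (CommRingCat.of B) ⟶ X) [IsOpenImmersion j]
    (j' : Spec (CommRingCat.of C) ⟶ X) [IsOpenImmersion j'] (ω : Dual.D B) (ω' : Dual.D C)
    (e : (DCoh.tildeD (CommRingCat.of B)).obj ω ≅ (rd j).obj E)
    (e' : (DCoh.tildeD (CommRingCat.of C)).obj ω' ≅ (rd j').obj E)
    (p : PrimeSpectrum B) (q : PrimeSpectrum C) (hpq : j.base p = j'.base q)
    (h : Dual.IsDualizing (Loc q) (loc ω' q)) : Dual.IsDualizing (Loc p) (loc ω p) := by
  obtain ⟨_, ⟨g, rfl⟩, hpg, hgW⟩ := PrimeSpectrum.isTopologicalBasis_basic_opens.exists_subset_of_mem_open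
    (show p ∈ (j.base ⁻¹' Set.range j'.base) from ⟨q, hpq.symm⟩) (j'.isOpenEmbedding.isOpen_range.preimage j.continuous)
  let D := Localization.Away g
  let u := Spec.map (CommRingCat.ofHom (algebraMap B D))
  haveI hu : IsOpenImmersion u := IsOpenImmersion.of_isLocalization (S := D) g
  have hur : Set.range u.base = (PrimeSpectrum.basicOpen g : Set (PrimeSpectrum B)) :=
    PrimeSpectrum.localization_away_comap_range D g
  let l := u ≫ j
  have hl : Set.range l.base ⊆ Set.range j'.base := by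
    rintro _ ⟨z, rfl⟩
    have h2 : u.base z ∈ Set.range u.base := ⟨z, rfl⟩
    rw [hur] at h2
    exact hgW h2
  let v := IsOpenImmersion.lift j' l hl
  have hv : v ≫ j' = l := IsOpenImmersion.lift_fac _ _ _
  letI : Algebra C D := (Spec.preimage v).hom.toAlgebra
  have hvv : Spec.map (CommRingCat.ofHom (algebraMap C D)) = v := Spec.map_preimage v
  haveI : IsOpenImmersion (Spec.map (CommRingCat.ofHom (algebraMap C D))) := by
    rw [hvv]
    haveI : IsOpenImmersion (v ≫ j') := by rw [hv]; infer_instance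
    exact IsOpenImmersion.of_comp v j'
  haveI : Module.Flat C D := RingHom.flat_algebraMap_iff.1
    (Flat.SpecMap_iff.1 (inferInstanceAs (AlgebraicGeometry.Flat (Spec.map (CommRingCat.ofHom (algebraMap C D))))))
  haveI : Module.Flat B D := IsLocalization.flat D (Submonoid.powers g)
  obtain ⟨e₁⟩ := nonempty_FD_of_open j l rfl E ω e
  obtain ⟨e₂⟩ := nonempty_FD_of_open j' l (by rw [hvv, hv]) E ω' e'
  haveI := (QCohD.full_faithful (CommRingCat.of D)).1
  haveI := (QCohD.full_faithful (CommRingCat.of D)).2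
  obtain ⟨P, hP⟩ : p ∈ Set.range (PrimeSpectrum.comap (algebraMap B D)) := by
    rw [PrimeSpectrum.localization_away_comap_range D g]; exact hpg
  have hQ : PrimeSpectrum.comap (algebraMap C D) P = q := by
    refine j'.isOpenEmbedding.injective ?_
    have h1 : (v ≫ j').base P = l.base P := by rw [hv]
    rw [← hvv] at h1
    exact h1.trans ((congrArg j.base hP).trans hpq)
  subst hP hQ
  refine isDualizing_loc_transfer ((DCoh.tildeD (CommRingCat.of D)).preimageIso (e₁ ≪≫ e₂.symm)) P
    (H05EGA4.QFLocal.isLocalization_atPrime hu P.asIdeal)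
    (H05EGA4.QFLocal.isLocalization_atPrime inferInstance P.asIdeal) h

end Transition

section Bounded

variable {Y : Scheme.{u}} [IsNoetherian Y]
  [∀ (U : Scheme.{u}) (j : U ⟶ Y) [IsOpenImmersion j], PreservesFiniteLimits (Scheme.Modules.restrictFunctor j)]
  [∀ (R : CommRingCat.{u}), PreservesFiniteLimits (tilde.functor R)]
  (K : DCoh.DQCoh Y) (hK : Dual2.IsDualizingSch Y K.obj)

include hK in
/-- A dualizing complex is bounded below and coherent. -/
theorem exists_bounded_cohD : ∃ c : ℤ, K.obj.IsGE c ∧ DCoh.IsCohD K.obj := by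
  classical
  have hch : ∀ y : Y, ∃ (A : Type u) (_ : CommRing A) (c : Spec (CommRingCat.of A) ⟶ Y) (_ : IsOpenImmersion c),
      y ∈ c.opensRange := fun y =>
    ⟨_, inferInstance, Y.affineCover.f (Y.affineCover.idx y),
      inferInstanceAs (IsOpenImmersion (Y.affineCover.f (Y.affineCover.idx y))), Y.affineCover.covers y⟩
  choose A iA c hc hy using hch
  choose ω hω he using fun y => hK (A y) (c y)
  choose lo hi hlo using fun y => H4DR.Dualizing.exists_bounds (hω y)
  obtain ⟨T, hT⟩ := CompactSpace.elim_nhds_subcover (fun y => ((c y).opensRange : Set Y))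
    (fun y => (c y).opensRange.isOpen.mem_nhds (hy y))
  obtain ⟨m, hm⟩ := (T.finite_toSet.image lo).bddBelow
  refine ⟨m, (DerivedCategory.isGE_iff _ _).2 fun i hi' => ?_, isCohD_of_charts K.property fun y => ?_⟩
  · refine (Thomason.isZero_hd_iff _ i).2 (Set.eq_empty_iff_forall_notMem.2 fun x hx => ?_)
    obtain ⟨y, hyT, z, hz⟩ := Set.mem_iUnion₂.1 (hT.ge (Set.mem_univ x))
    obtain ⟨e⟩ := he y
    have h1 := (Thomason.mem_support_rd (c y) K.obj i z).2 (hz.symm ▸ hx)
    have h2 : IsZero (DCoh.HD ((DCoh.tildeD (CommRingCat.of (A y))).obj (ω y)) i) := by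
      haveI := hlo y i (Or.inl (lt_of_lt_of_le hi' (hm (Set.mem_image_of_mem lo hyT))))
      exact ((tf (A y)).map_isZero (ModuleCat.isZero_of_subsingleton
        ((DerivedCategory.homologyFunctor (ModuleCat.{u} (A y)) i).obj (ω y)))).of_iso (hdTilde (ω y) i)
    rw [Thomason.support_eq_empty_of_isZero
      (h2.of_iso ((DerivedCategory.homologyFunctor _ i).mapIso e))] at h1
    exact h1
  · obtain ⟨e⟩ := he y
    haveI := (hω y).isNoetherianRing
    refine ⟨A y, iA y, c y, hc y, hy y, fun i => ?_⟩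
    haveI := (hω y).finite_cohomology i
    exact H10Coh.isCoh_of_iso
      ((show tilde (R := CommRingCat.of (A y)) _ ≅ _ from (hdTilde (ω y) i).symm) ≪≫
        (DerivedCategory.homologyFunctor _ i).mapIso e.symm ≪≫ homologyRdIso (c y) K.obj i)
      (@H10Coh.isCoh_tilde (CommRingCat.of (A y))
        ((DerivedCategory.homologyFunctor (ModuleCat.{u} (A y)) i).obj (ω y)) ‹_›)

end Bounded

section Dim

variable {X Y : Scheme.{u}} [IsNoetherian Y] (f : X ⟶ Y) [IsProper f]
  [∀ (U : Scheme.{u}) (j : U ⟶ Y) [IsOpenImmersion j], PreservesFiniteLimits (Scheme.Modules.restrictFunctor j)]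
  [∀ (R : CommRingCat.{u}), PreservesFiniteLimits (tilde.functor R)]
  (K : DCoh.DQCoh Y) (hK : Dual2.IsDualizingSch Y K.obj)

include f hK in
/-- The charts of a scheme proper over a scheme with a dualizing complex have finite dimension. -/
theorem dim_chart_lt_top {B : Type u} [CommRing B] (j : Spec (CommRingCat.of B) ⟶ X) [IsOpenImmersion j] :
    ringKrullDim B < ⊤ := by
  classical
  haveI : CompactSpace X := QuasiCompact.compactSpace_of_compactSpace f
  have hch : ∀ x : X, ∃ W : X.Opens, x ∈ W ∧ topologicalKrullDim W < ⊤ := fun x => by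
    obtain ⟨V, hV, hxV, -⟩ := exists_isAffineOpen_mem_and_subset (x := f x) (U := (⊤ : Y.Opens)) trivial
    obtain ⟨W, hW, hxW, hWV⟩ := exists_isAffineOpen_mem_and_subset (x := x) (U := f ⁻¹ᵁ V) hxV
    refine ⟨W, hxW, ?_⟩
    obtain ⟨ω, hω, -⟩ := hK Γ(Y, V) hV.fromSpec
    haveI := hω.isNoetherianRing
    letI := (f.appLE V W hWV).hom.toAlgebra
    haveI : Algebra.FiniteType Γ(Y, V) Γ(X, W) := f.finiteType_appLE hV hW hWV
    have h := H4DR.Dualizing.ringKrullDim_lt_top_of_finiteType (A := Γ(Y, V)) (B := Γ(X, W))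
      (H4DR.Dualizing.ringKrullDim_lt_top hω)
    rw [← PrimeSpectrum.topologicalKrullDim_eq_ringKrullDim] at h
    exact (IsHomeomorph.topologicalKrullDim_eq _ hW.isoSpec.hom.homeomorph.isHomeomorph).trans_lt h
  choose W hxW hW using hch
  obtain ⟨T, hT⟩ := CompactSpace.elim_nhds_subcover (fun x => (W x : Set X))
    (fun x => (W x).isOpen.mem_nhds (hxW x))
  have hX : topologicalKrullDim X ≤ T.sup fun x => topologicalKrullDim (W x) :=
    S1416.dim_le_of_cover _ fun x => by
      obtain ⟨y, hyT, hxy⟩ := Set.mem_iUnion₂.1 (hT.ge (Set.mem_univ x))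
      exact ⟨W y, (W y).isOpen, hxy, Finset.le_sup (f := fun x => topologicalKrullDim (W x)) hyT⟩
  rw [← PrimeSpectrum.topologicalKrullDim_eq_ringKrullDim]
  refine ((j.isOpenEmbedding.isInducing.topologicalKrullDim_le).trans hX).trans_lt ?_
  exact (Finset.sup_lt_iff (bot_lt_top)).2 fun y _ => hW y

end Dim

section Glue

variable {X : Scheme.{u}} [IsLocallyNoetherian X] [CompactSpace X]
  [∀ (U : Scheme.{u}) (j : U ⟶ X) [IsOpenImmersion j], PreservesFiniteLimits (Scheme.Modules.restrictFunctor j)]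
  [∀ (R : CommRingCat.{u}), PreservesFiniteLimits (tilde.functor R)]

/-- Dualizing at all closed points is dualizing. -/
theorem isDualizingSch_of_closed (E : DCoh.D X) (hcoh : DCoh.IsCohD E) {c₀ : ℤ} (hc₀ : E.IsGE c₀)
    (hdim : ∀ {B : Type u} [CommRing B] (j : Spec (CommRingCat.of B) ⟶ X) [IsOpenImmersion j], ringKrullDim B < ⊤)
    (hclosed : ∀ {C : Type u} [CommRing C] [IsNoetherianRing C] (j' : Spec (CommRingCat.of C) ⟶ X) [IsOpenImmersion j']
      (ω' : Dual.D C), ((DCoh.tildeD (CommRingCat.of C)).obj ω' ≅ (rd j').obj E) →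
      (∀ i : ℤ, Module.Finite C (Dual.HD C ω' i)) → (∀ i : ℤ, i < c₀ → Subsingleton (Dual.HD C ω' i)) →
      ∀ q : PrimeSpectrum C, IsClosed ({j'.base q} : Set X) → Dual.IsDualizing (Loc q) (loc ω' q)) :
    Dual2.IsDualizingSch X E := by
  intro B _ j _
  haveI : IsNoetherianRing B := isLocallyNoetherian_Spec.1 (isLocallyNoetherian_of_isOpenImmersion j)
  obtain ⟨ω, ⟨e⟩, hfin, hlow⟩ := exists_chart_model j E hcoh c₀ hc₀
  refine ⟨ω, ?_, ⟨e.symm⟩⟩
  refine H4DR.Dualizing.isDualizing_of_pointwise (hdim j) ω hfin ⟨c₀, hlow⟩ fun p => ?_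
  obtain ⟨x, hx, hxc⟩ := (isClosed_closure (s := ({j.base p} : Set X))).exists_closed_singleton
    ((Set.singleton_nonempty _).mono subset_closure)
  have hpx : j.base p ⤳ x := specializes_iff_mem_closure.2 hx
  obtain ⟨q, hq⟩ := X.affineCover.covers x
  obtain ⟨C, _, j', _, q, hq⟩ : ∃ (C : Type u) (_ : CommRing C) (j' : Spec (CommRingCat.of C) ⟶ X)
      (_ : IsOpenImmersion j') (q : PrimeSpectrum C), j'.base q = x :=
    ⟨_, inferInstance, X.affineCover.f (X.affineCover.idx x),
      inferInstanceAs (IsOpenImmersion (X.affineCover.f (X.affineCover.idx x))), q, hq⟩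
  haveI : IsNoetherianRing C := isLocallyNoetherian_Spec.1 (isLocallyNoetherian_of_isOpenImmersion j')
  obtain ⟨ω', ⟨e'⟩, hfin', hlow'⟩ := exists_chart_model j' E hcoh c₀ hc₀
  obtain ⟨p', hp'⟩ : j.base p ∈ Set.range j'.base :=
    hpx.mem_open j'.isOpenEmbedding.isOpen_range ⟨q, hq⟩
  have hle : (show PrimeSpectrum C from p') ≤ q := (PrimeSpectrum.le_iff_specializes (show PrimeSpectrum C from p') q).2
    ((j'.isOpenEmbedding.isInducing.specializes_iff).1 (by rw [hp', hq]; exact hpx))
  refine isDualizing_loc_chart E j j' ω ω' e e' p p' hp'.symm (isDualizing_loc_of_le hle ?_)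
  exact hclosed j' ω' e' hfin' hlow' q (hq.symm ▸ hxc)

end Glue

section Main

variable {X Y : Scheme.{u}} [IsNoetherian Y] (f : X ⟶ Y) [IsProper f] [DCoh.HasRpush f] {hf : DCoh.RpushPreservesQCoh f}
  {a : DCoh.DQCoh Y ⥤ DCoh.DQCoh X} (adj : DCoh.RpushQ f hf ⊣ a)
  [∀ (U : Scheme.{u}) (j : U ⟶ X) [IsOpenImmersion j], PreservesFiniteLimits (Scheme.Modules.restrictFunctor j)]
  [∀ (U : Scheme.{u}) (j : U ⟶ Y) [IsOpenImmersion j], PreservesFiniteLimits (Scheme.Modules.restrictFunctor j)]
  [∀ (R : CommRingCat.{u}), PreservesFiniteLimits (tilde.functor R)]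
  (K : DCoh.DQCoh Y) (hK : Dual2.IsDualizingSch Y K.obj)

include adj in
/-- The residue condition at a closed point, from a chart below. -/
theorem exists_point_residue {B : Type u} [CommRing B] [IsNoetherianRing B]
    (j : Spec (CommRingCat.of B) ⟶ X) [IsOpenImmersion j] (ω : Dual.D B)
    (e : (DCoh.tildeD (CommRingCat.of B)).obj ω ≅ (rd j).obj (a.obj K).obj)
    (m : PrimeSpectrum B) (hx : IsClosed ({j.base m} : Set X)) {A : Type u} [CommRing A]
    (c : Spec (CommRingCat.of A) ⟶ Y) [IsOpenImmersion c] (z : PrimeSpectrum A) (hz : c.base z = f.base (j.base m))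
    (ωA : Dual.D A) (hωA : Dual.IsDualizing A ωA) (eA : (DCoh.tildeD (CommRingCat.of A)).obj ωA ≅ (rd c).obj K.obj) :
    ∃ (ψ' : A →+* B ⧸ m.asIdeal) (n : ℤ),
      (∀ i : ℤ, i ≠ n → Subsingleton (H4DR.Ext.Ex (Dual.inD B (B ⧸ m.asIdeal)) ω i)) ∧
      Nonempty (H4DR.Ext.Ex (Dual.inD B (B ⧸ m.asIdeal)) ω n ≃ₗ[B] B ⧸ m.asIdeal) ∧
      ∀ [IsLocalRing A], Dual.IsNormalized A ωA → n = 0 := by
  have hmc : IsClosed ({m} : Set (PrimeSpectrum B)) := by
    have h1 := hx.preimage j.continuous
    rwa [show (j.base ⁻¹' {j.base m}) = {m} from Set.ext fun w => j.isOpenEmbedding.injective.eq_iff] at h1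
  haveI : m.asIdeal.IsMaximal := (PrimeSpectrum.isClosed_singleton_iff_isMaximal m).1 hmc
  letI := Ideal.Quotient.field m.asIdeal
  let k := B ⧸ m.asIdeal
  let ψ : B →+* k := Ideal.Quotient.mk m.asIdeal
  let π := Spec.map (CommRingCat.ofHom ψ)
  haveI hπ : IsClosedImmersion π := IsClosedImmersion.spec_of_surjective _ Ideal.Quotient.mk_surjective
  have hπm : π.base default = m := by
    refine PrimeSpectrum.ext ?_
    exact ((‹m.asIdeal.IsMaximal›).eq_of_le (Ideal.IsPrime.ne_top') fun b hb => by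
      have h : ∀ z : PrimeSpectrum k, b ∈ (PrimeSpectrum.comap ψ z).asIdeal := fun z => by
        show ψ b ∈ z.asIdeal
        convert z.asIdeal.zero_mem
        exact Ideal.Quotient.eq_zero_iff_mem.2 hb
      exact h _).symm
  let i := π ≫ j
  have hi0 : ∀ z, i.base z = j.base m := fun z => by
    rw [Subsingleton.elim z default]; exact congrArg j.base hπm
  haveI : IsPreimmersion π := inferInstance
  haveI : IsPreimmersion i := inferInstance
  haveI : IsClosedImmersion i := by
    refine IsClosedImmersion.of_isPreimmersion i ?_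
    rw [show Set.range i.base = {j.base m} from Set.eq_singleton_iff_unique_mem.2
      ⟨⟨default, hi0 default⟩, fun y ⟨z, hz⟩ => hz ▸ hi0 z⟩]
    exact hx
  have hy : IsClosed ({f.base (j.base m)} : Set Y) := by
    have := f.isClosedMap _ hx
    rwa [Set.image_singleton] at this
  let y := f.base (j.base m)
  haveI := hωA.isNoetherianRing
  let l := IsOpenImmersion.lift c (i ≫ f) (by
    rintro _ ⟨w, rfl⟩
    exact ⟨z, hz.trans (congrArg f.base (hi0 w)).symm⟩)
  have hl : l ≫ c = i ≫ f := IsOpenImmersion.lift_fac _ _ _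
  let ψ' : A →+* k := (Spec.preimage l).hom
  have hψl : Spec.map (CommRingCat.ofHom ψ') = l := Spec.map_preimage l
  have hψ' : ψ'.Finite := by
    haveI : IsProper (l ≫ c) := by rw [hl]; infer_instance
    haveI : IsProper l := IsProper.of_comp l c
    have h1 : IsFinite (Spec.map (CommRingCat.ofHom ψ')) := by
      rw [hψl]; exact IsFinite.iff_isProper_and_isAffineHom.2 ⟨inferInstance, inferInstance⟩
    exact (IsFinite.SpecMap_iff _).1 h1
  haveI := H26Dual2.isLeftAdjoint_TD ψ
  haveI := H26Dual2.isLeftAdjoint_TD ψ'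
  let adjψ := Adjunction.ofIsLeftAdjoint (H26Dual2.TD ψ)
  let adjψ' := Adjunction.ofIsLeftAdjoint (H26Dual2.TD ψ')
  haveI : CompactSpace X := QuasiCompact.compactSpace_of_compactSpace f
  haveI : QuasiSeparatedSpace X := quasiSeparatedSpace_of_quasiSeparated f
  obtain ⟨ε⟩ := nonempty_iso_point adj c j ψ ψ' (hπm.symm ▸ hx)
    (by
      have h0 : c.base ((Spec.map (CommRingCat.ofHom ψ')).base default) = y := by
        rw [hψl]
        exact (congrArg (fun g : Spec (CommRingCat.of k) ⟶ Y => g.base default) hl).trans (congrArg f.base (hi0 default))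
      rw [h0]; exact hy)
    (by rw [hψl, hl]) K ω e ωA eA adjψ adjψ'
  have hk : Dual.IsDualizing k ((H26Dual2.TD ψ).rightAdjoint.obj ω) := by
    letI := ψ'.toAlgebra
    haveI : Module.Finite A k := hψ'
    exact H4DR.Dualizing.isDualizing_of_iso ε.symm (H4DR.Dualizing.isDualizing_rightAdjoint adjψ' hψ' hωA)
  obtain ⟨n, hvan, hd, hn0⟩ := residue_of_dualizing adjψ Ideal.Quotient.mk_surjective ω hk
  rw [Ideal.mk_ker] at hvan hd
  refine ⟨ψ', n, hvan, hd, fun hn => hn0 fun i hi => ?_⟩
  haveI : IsLocalHom ψ' := ⟨fun x hxu => by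
    by_contra hx0
    have hmax : ((⊥ : Ideal k).comap ψ').IsMaximal :=
      Ideal.isMaximal_comap_of_isIntegral_of_isMaximal' ψ' hψ'.to_isIntegral ⊥
    have h1 : x ∈ (⊥ : Ideal k).comap ψ' := by
      rw [IsLocalRing.eq_maximalIdeal hmax]; exact hx0
    exact not_isUnit_zero ((show ψ' x = 0 from h1) ▸ hxu)⟩
  haveI := H4DR.Dualizing.isNormalized_rightAdjoint adjψ' hψ' hωA hn i hi
  exact (Iso.homToEquiv ((shiftFunctor (Dual.D k) i).mapIso ε)).subsingleton

include adj hK in
/-- At a closed point. -/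
theorem isDualizing_loc_closed {B : Type u} [CommRing B] [IsNoetherianRing B]
    (j : Spec (CommRingCat.of B) ⟶ X) [IsOpenImmersion j] (ω : Dual.D B)
    (e : (DCoh.tildeD (CommRingCat.of B)).obj ω ≅ (rd j).obj (a.obj K).obj)
    (hfin : ∀ i : ℤ, Module.Finite B (Dual.HD B ω i)) {c₀ : ℤ} (hlow : ∀ i : ℤ, i < c₀ → Subsingleton (Dual.HD B ω i))
    (m : PrimeSpectrum B) (hx : IsClosed ({j.base m} : Set X)) : Dual.IsDualizing (Loc m) (loc ω m) := by
  let y := f.base (j.base m)
  obtain ⟨z, hz⟩ := Y.affineCover.covers y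
  obtain ⟨A, iA, c, hc, z, hz⟩ : ∃ (A : Type u) (_ : CommRing A) (c : Spec (CommRingCat.of A) ⟶ Y)
      (_ : IsOpenImmersion c) (z : PrimeSpectrum A), c.base z = y :=
    ⟨_, inferInstance, Y.affineCover.f (Y.affineCover.idx y),
      inferInstanceAs (IsOpenImmersion (Y.affineCover.f (Y.affineCover.idx y))), z, hz⟩
  obtain ⟨ωA, hωA, ⟨eA⟩⟩ := hK A c
  obtain ⟨ψ', n, hvan, hd, -⟩ := exists_point_residue f adj K j ω e m hx c z hz ωA hωA eA.symm
  haveI : m.asIdeal.IsMaximal := by
    refine (PrimeSpectrum.isClosed_singleton_iff_isMaximal m).1 ?_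
    have h1 := hx.preimage j.continuous
    rwa [show (j.base ⁻¹' {j.base m}) = {m} from Set.ext fun w => j.isOpenEmbedding.injective.eq_iff] at h1
  exact (isDualizing_loc_of_residue m hfin hlow n hvan hd).1

include adj hK in
/-- **`a(K)` is dualizing.** -/
theorem isDualizingSch_rightAdjoint : Dual2.IsDualizingSch X (a.obj K).obj := by
  classical
  haveI : CompactSpace X := QuasiCompact.compactSpace_of_compactSpace f
  haveI : QuasiSeparatedSpace X := quasiSeparatedSpace_of_quasiSeparated f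
  haveI : IsLocallyNoetherian X := LocallyOfFiniteType.isLocallyNoetherian f
  obtain ⟨c₁, hKc, hKcoh⟩ := exists_bounded_cohD K hK
  have hcoh : DCoh.IsCohD (a.obj K).obj := LeadBrown.isCohD_rightAdjoint f adj K c₁ hKc hKcoh
  obtain ⟨c₀, hc₀⟩ := LeadBrown.exists_isGE adj K c₁ hKc
  refine isDualizingSch_of_closed (a.obj K).obj hcoh hc₀ (fun j => dim_chart_lt_top f K hK j)
    fun j' _ ω' e' hfin' hlow' q hq => isDualizing_loc_closed f adj K hK j' ω' e' hfin' hlow' q hq

end Main

end Groth.Agent.H4RepDual
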