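import Groth.Agent.H4RepDual.Bound
import Groth.Agent.H16Derived.Thomason.KoszulFactor
import Groth.Agent.H16Derived.QCohD.RpushUnb
import Groth.Agent.LeadBrown.Coherent
import Groth.Agent.LeadAff.Chevalley

/-!
# The dualizing module of a proper scheme over a field
-/

set_option autoImplicit false
set_option linter.style.haveILetI false
set_option linter.unusedSectionVars false
set_option backward.isDefEq.respectTransparency false
set_option synthInstance.maxHeartbeats 400000

universe u

open CategoryTheory CategoryTheory.Limits AlgebraicGeometry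
open DerivedCategory.TStructure

attribute [local instance] HasDerivedCategory.standard

namespace Groth.Agent.H4RepDual

attribute [local instance 10000] H10Coh.hasSheafifyAb H10Coh.hasWeakSheafifyAb H10Coh.hasExtAb H10Coh.enoughInjAb

theorem smulAb_comm {X : Scheme.{u}} {M N : X.Modules} (φ : M ⟶ N) (r : Coh.Γtop X) :
    Coh.smulAb M r ≫ (SheafOfModules.toSheaf X.ringCatSheaf).map φ =
      (SheafOfModules.toSheaf X.ringCatSheaf).map φ ≫ Coh.smulAb N r := by
  ext U m
  exact φ.app_smul (Coh.resTop X U r) m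

theorem exists_dualizingModule (k : Type u) [Field k] (X : Scheme.{u}) (f : X ⟶ Spec (CommRingCat.of k)) [IsProper f]
    (d : ℕ) (hd : topologicalKrullDim X ≤ (d : WithBot ℕ∞)) :
    ∃ (ω : X.Modules) (t : Coh.HH X ω d →+ k), Coh.IsCoh ω ∧
      (∀ (r : k) x, t (Sheaf.H.map (Coh.smulAb ω (Coh.toGlobal f r)) d x) = r * t x) ∧
      ∀ (F : X.Modules), Coh.IsQCoh F → ∀ ψ : Coh.HH X F d →+ k,
        (∀ (r : k) x, ψ (Sheaf.H.map (Coh.smulAb F (Coh.toGlobal f r)) d x) = r * ψ x) →
        ∃! φ : F ⟶ ω, ∀ x : Coh.HH X F d,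
          ψ x = t (Sheaf.H.map ((SheafOfModules.toSheaf X.ringCatSheaf).map φ) d x) := by
  haveI := hasExtModules X
  haveI := H16Derived.QCohD.hasRpush f
  haveI : CompactSpace X := QuasiCompact.compactSpace_of_compactSpace f
  haveI : QuasiSeparatedSpace X := quasiSeparatedSpace_of_quasiSeparated f
  haveI := H16Derived.QCohD.preservesFiniteLimits_tilde_of k
  have h : ∀ K : DCoh.D X, DCoh.IsQCohD K → DCoh.IsQCohD ((DCoh.Rpush f).obj K) := fun K hK =>
    H16Derived.QCohD.isQCohD_rpush f hK
  haveI := LeadBrown.isLeftAdjoint_rpushQ f h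
  let adj := Adjunction.ofIsLeftAdjoint (DCoh.RpushQ f h)
  let S := Spec (CommRingCat.of k)
  let O : DCoh.DQCoh S := ⟨DCoh.inD S (Coh.structureModule S),
    H16Derived.TorTest.isQCohD_inD H10Coh.isQuasicoherent_unit⟩
  let eK : O.obj ≅ (DCoh.tildeD (CommRingCat.of k)).obj (Dual.inD k k) :=
    ((DerivedCategory.singleFunctor S.Modules 0).mapIso (AlgebraicGeometry.tildeSelf (R := CommRingCat.of k))).symm ≪≫
      (((tilde.functor (CommRingCat.of k)).mapDerivedCategorySingleFunctor 0).app (ModuleCat.of k k)).symm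
  have hω : DerivedCategory.IsGE (Dual.inD k k) 0 := inferInstance
  have hO : O.obj.IsGE 0 := inferInstanceAs (DerivedCategory.IsGE ((DerivedCategory.singleFunctor S.Modules 0).obj _) 0)
  have hbound : ∀ M : X.Modules, Coh.IsQCoh M → ((DCoh.Rpush f).obj (DCoh.inD X M)).IsLE d :=
    isLE_rpush_inD f d fun y => (f.fiberι y).isEmbedding.isInducing.topologicalKrullDim_le.trans hd
  obtain ⟨t₀, ht₀, hu⟩ := exists_trace_aux f (hf := h) adj d hbound O (Dual.inD k k) hω eK
    (by simpa using isGE_of_bound f h adj d hbound O 0 hO)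
  have hcoh : DCoh.IsCohD ((DCoh.RpushQ f h).rightAdjoint.obj O).obj :=
    LeadBrown.isCohD_rightAdjoint f (hf := h) adj O 0 hO fun i => by
      rcases eq_or_ne i 0 with rfl | hi
      · exact H10Coh.isCoh_of_iso (H16Derived.KFlat.Stalk.hdSingle _ 0).symm (LeadAff.isCoh_structureModule S)
      · refine H16Derived.Dual.isCoh_isZero ?_
        rcases lt_or_gt_of_ne hi with h | h
        · exact DerivedCategory.isZero_of_isGE _ 0 i h
        · exact DerivedCategory.isZero_of_isLE _ 0 i h
  let s : Dual.HD k (Dual.inD k k) 0 ≃ₗ[k] k :=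
    ((DerivedCategory.singleFunctorCompHomologyFunctorIso (ModuleCat.{u} k) 0).app (ModuleCat.of k k)).toLinearEquiv
  refine ⟨_, s.toAddMonoidHom.comp t₀, hcoh _, fun r x => ?_, fun F hF ψ hψ => ?_⟩
  · exact (congrArg s (ht₀ r x)).trans ((s.map_smul r _).trans rfl)
  · obtain ⟨φ, hφ, hq⟩ := hu F hF (s.symm.toAddMonoidHom.comp ψ) fun r x =>
      (congrArg s.symm (hψ r x)).trans (s.symm.map_smul r (ψ x))
    exact ⟨φ, fun x => (s.apply_symm_apply (ψ x)).symm.trans (congrArg s (hφ x)),
      fun χ hχ => hq χ fun x => (congrArg s.symm (hχ x)).trans (s.symm_apply_apply _)⟩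

end Groth.Agent.H4RepDual
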