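import Groth.Agent.H4RepDual.UnitHom
import Groth.Agent.H4DR.Ext.Point
import Groth.Agent.H16Derived.KFlat.PerfConcD
import Groth.Agent.H16Derived.KFlat.PushPull
import Groth.Agent.H8Props.RelPCBaseChange

/-!
# `H^0` of `R` with `R~ ≅ Rf_* E` is `Hom(O_X, E)`
-/

set_option autoImplicit false
set_option linter.style.haveILetI false
set_option backward.isDefEq.respectTransparency false
set_option synthInstance.maxHeartbeats 400000

universe u

open CategoryTheory CategoryTheory.Limits AlgebraicGeometry Opposite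
open Groth.Agent.H4DR.Ext (evalOne bijective_evalOne)
open Groth.Agent.H16Derived.KFlat.Stalk

attribute [local instance] HasDerivedCategory.standard

namespace Groth.Agent.H4RepDual

variable {A : Type u} [CommRing A] {X : Scheme.{u}} (f : X ⟶ Spec (CommRingCat.of A)) [DCoh.HasRpush f]

/-- `Lf^* O = O`. -/
noncomputable def unitPull : haveI := hasLpull f
    (DCoh.Lpull f).obj (DCoh.inD _ (Coh.structureModule (Spec (CommRingCat.of A)))) ≅ DCoh.inD X (Coh.structureModule X) :=
  haveI := hasLpull f
  lpullSingleIso f (H8Props.RelPC.isFinLocFree_structure _) 0 ≪≫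
    (DerivedCategory.singleFunctor X.Modules 0).mapIso (structurePullbackIso f)

/-- `Hom(O_X, E) → Hom(O, Rf_* E)`. -/
noncomputable def pushHom (E : DCoh.D X) :
    (DCoh.inD X (Coh.structureModule X) ⟶ E) →+
      (DCoh.inD _ (Coh.structureModule (Spec (CommRingCat.of A))) ⟶ (DCoh.Rpush f).obj E) :=
  haveI := hasLpull f
  haveI : (DCoh.Rpush f).Additive :=
    letI := rpushCommShift f
    haveI := rpush_isTriangulated f
    inferInstance
  AddMonoidHom.mk' (fun g => (lpullRpushAdj f).homEquiv _ E ((unitPull f).hom ≫ g)) fun g g' => by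
    rw [Preadditive.comp_add, Adjunction.homEquiv_unit, Adjunction.homEquiv_unit, Adjunction.homEquiv_unit,
      Functor.map_add, Preadditive.comp_add]

theorem bijective_pushHom (E : DCoh.D X) : Function.Bijective (pushHom f E) := by
  haveI := hasLpull f
  exact ((lpullRpushAdj f).homEquiv _ E).bijective.comp (unitPull f).symm.homFromEquiv.bijective

theorem pushHom_comp {E E' : DCoh.D X} (u : E ⟶ E') (g : DCoh.inD X (Coh.structureModule X) ⟶ E) :
    pushHom f E' (g ≫ u) = pushHom f E g ≫ (DCoh.Rpush f).map u := by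
  haveI := hasLpull f
  show (lpullRpushAdj f).homEquiv _ E' _ = (lpullRpushAdj f).homEquiv _ E _ ≫ _
  rw [← Category.assoc, Adjunction.homEquiv_naturality_right]

variable [PreservesFiniteLimits (tilde.functor (CommRingCat.of A))]

/-- `A~ = O`. -/
noncomputable def tildeUnit : (DCoh.tildeD (CommRingCat.of A)).obj (Dual.inD A A) ≅
    DCoh.inD _ (Coh.structureModule (Spec (CommRingCat.of A))) :=
  haveI : PreservesFiniteColimits (tilde.functor (CommRingCat.of A)) :=
    @PreservesColimitsOfSize.preservesFiniteColimits.{0, 0} _ _ _ _ (tilde.functor (CommRingCat.of A))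
      ((tilde.adjunction (R := CommRingCat.of A)).leftAdjoint_preservesColimits)
  ((tilde.functor (CommRingCat.of A)).mapDerivedCategorySingleFunctor 0).app (ModuleCat.of A A) ≪≫
    (DerivedCategory.singleFunctor _ 0).mapIso (tildeSelf (R := CommRingCat.of A))

variable {E : DCoh.D X} {R : Dual.D A} (ε : (DCoh.tildeD (CommRingCat.of A)).obj R ≅ (DCoh.Rpush f).obj E)

/-- The inverse image under tilde. -/
noncomputable def preHom (g : DCoh.inD X (Coh.structureModule X) ⟶ E) : Dual.inD A A ⟶ R :=
  haveI := (H16Derived.QCohD.full_faithful (CommRingCat.of A)).1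
  (DCoh.tildeD (CommRingCat.of A)).preimage (tildeUnit.hom ≫ pushHom f E g ≫ ε.inv)

theorem map_preHom (g : DCoh.inD X (Coh.structureModule X) ⟶ E) :
    (DCoh.tildeD (CommRingCat.of A)).map (preHom f ε g) = tildeUnit.hom ≫ pushHom f E g ≫ ε.inv :=
  haveI := (H16Derived.QCohD.full_faithful (CommRingCat.of A)).1
  (DCoh.tildeD (CommRingCat.of A)).map_preimage _

theorem bijective_preHom : Function.Bijective (preHom f ε) := by
  haveI := (H16Derived.QCohD.full_faithful (CommRingCat.of A)).1
  haveI := (H16Derived.QCohD.full_faithful (CommRingCat.of A)).2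
  refine ⟨fun g g' h => (bijective_pushHom f E).1 ?_, fun v => ?_⟩
  · have h' := congrArg (DCoh.tildeD (CommRingCat.of A)).map h
    rw [map_preHom, map_preHom] at h'
    exact (cancel_mono ε.inv).1 ((cancel_epi tildeUnit.hom).1 h')
  · obtain ⟨g, hg⟩ := (bijective_pushHom f E).2
      (tildeUnit.inv ≫ (DCoh.tildeD (CommRingCat.of A)).map v ≫ ε.hom)
    refine ⟨g, (DCoh.tildeD (CommRingCat.of A)).map_injective ?_⟩
    rw [map_preHom, hg]
    simp

/-- `Hom(O_X, E) = H^0(R)`. -/
noncomputable def h0Equiv : (DCoh.inD X (Coh.structureModule X) ⟶ E) ≃+ Dual.HD A R 0 :=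
  AddEquiv.ofBijective
    (AddMonoidHom.mk' (fun g => evalOne R (preHom f ε g)) fun g g' => by
      rw [← map_add]
      refine congrArg _ ?_
      haveI := (H16Derived.QCohD.full_faithful (CommRingCat.of A)).2
      haveI : PreservesFiniteColimits (tilde.functor (CommRingCat.of A)) :=
        @PreservesColimitsOfSize.preservesFiniteColimits.{0, 0} _ _ _ _ (tilde.functor (CommRingCat.of A))
          ((tilde.adjunction (R := CommRingCat.of A)).leftAdjoint_preservesColimits)
      refine (DCoh.tildeD (CommRingCat.of A)).map_injective ?_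
      rw [Functor.map_add, map_preHom, map_preHom, map_preHom, map_add, Preadditive.add_comp, Preadditive.comp_add])
    ((bijective_evalOne R).comp (bijective_preHom f ε))

theorem h0Equiv_naturality {E' : DCoh.D X} {R' : Dual.D A}
    (ε' : (DCoh.tildeD (CommRingCat.of A)).obj R' ≅ (DCoh.Rpush f).obj E') (v : R ⟶ R') (u : E ⟶ E')
    (h : (DCoh.tildeD (CommRingCat.of A)).map v ≫ ε'.hom = ε.hom ≫ (DCoh.Rpush f).map u)
    (g : DCoh.inD X (Coh.structureModule X) ⟶ E) :
    h0Equiv f ε' (g ≫ u) = H4DR.PCoh.hm 0 v (h0Equiv f ε g) := by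
  show evalOne R' (preHom f ε' (g ≫ u)) = H4DR.PCoh.hm 0 v (evalOne R (preHom f ε g))
  refine Eq.trans (congrArg _ ?_) (H4DR.PCoh.hm_comp_apply 0 _ v _)
  haveI := (H16Derived.QCohD.full_faithful (CommRingCat.of A)).2
  refine (DCoh.tildeD (CommRingCat.of A)).map_injective ?_
  rw [Functor.map_comp, map_preHom, map_preHom, pushHom_comp]
  simp only [Category.assoc]
  congr 2
  rw [Iso.eq_inv_comp, ← Category.assoc, Iso.comp_inv_eq, h]

end Groth.Agent.H4RepDual
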