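import Groth.Agent.H4RepDual.Main
import Groth.Agent.H4RepDual.Field
import Groth.Agent.H29Serre.Pairing
import Groth.Agent.H17.PnExt.Twist
import Groth.Agent.H16Derived.PnD.Gen

/-!
# The right adjoint of `Rf_*` for projective space over a ring
-/

set_option autoImplicit false
set_option linter.style.haveILetI false
set_option linter.unusedSectionVars false
set_option backward.isDefEq.respectTransparency false
set_option synthInstance.maxHeartbeats 400000

universe u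

open CategoryTheory CategoryTheory.Limits AlgebraicGeometry CategoryTheory.Pretriangulated
open Groth.Agent.H10Coh (Pn.Gr Pn.Od Pn.toS)
open Groth.Agent.H16Derived Groth.Agent.H16Derived.KFlat Groth.Agent.H16Derived.KFlat.Stalk
open Groth.Agent.LeadBrown (homEquivD homEquivD_comp)
open Groth.Agent.H4DR.PCoh (hm hm_comp_apply)
open DerivedCategory.TStructure

attribute [local instance] HasDerivedCategory.standard

namespace Groth.Agent.H4RepDual.PnDual

attribute [local instance 10000] H10Coh.hasSheafifyAb H10Coh.hasWeakSheafifyAb H10Coh.hasExtAb H10Coh.enoughInjAb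

variable (n : ℕ) (R : Type u) [CommRing R]

noncomputable local instance overP (n : ℕ) (R : Type u) [CommRing R] :
    (Proj (H10Coh.Pn.Gr n R)).Over (Spec (CommRingCat.of R)) := ⟨H10Coh.Pn.toS n R⟩

local notation "P" => Proj (H10Coh.Pn.Gr n R)
local notation "O" => H10Coh.Pn.Od n R

/-- A module dual to the forms of degree `m` is projective. -/
theorem projective_top (m : ℕ) : Module.Projective R (Coh.HH P (O (H29Serre.tw n m)) n) := by
  classical
  let S : Finset (Fin (n + 1) →₀ ℕ) := Finset.finsuppAntidiag Finset.univ m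
  let ι : Type := {q // q ∈ S}
  letI : Fintype ι := FinsetCoe.fintype S
  have hι : ∀ q : ι, q.1.degree = m := fun q => by
    rw [Finsupp.degree_eq_sum]; exact (Finset.mem_finsuppAntidiag.1 q.2).1
  let Φ : Coh.HH P (O (H29Serre.tw n m)) n →ₗ[R] (ι → R) := LinearMap.pi fun q =>
    H29Serre.trace n R ∘ₗ Canon.HHlin R
      (H29Serre.mulHom (H29Serre.monH q.1 (hι q)) (H29Serre.tw_add n m)) n
  let Ψ : (ι → R) →ₗ[R] Coh.HH P (O (H29Serre.tw n m)) n :=
    ∑ q : ι, (LinearMap.proj q).smulRight (H29Serre.dualCls q.1 (hι q))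
  refine Module.Projective.of_split Φ Ψ (H29Serre.hom_ext_dualCls fun q hq => ?_)
  have hq' : q ∈ Finset.finsuppAntidiag Finset.univ m := by
    simpa [Finset.mem_finsuppAntidiag, Finsupp.degree_eq_sum] using hq
  simp only [LinearMap.comp_apply, LinearMap.id_apply, Ψ, Φ, LinearMap.coe_sum, Finset.sum_apply,
    LinearMap.smulRight_apply, LinearMap.proj_apply, LinearMap.pi_apply, H29Serre.trace_mulHom]
  rw [Finset.sum_eq_single (⟨q, hq'⟩ : ι)]
  · simp [H29Serre.monH]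
  · intro b _ hb
    rw [show MvPolynomial.coeff q (H29Serre.monH (R := R) b.1 (hι b)).1 = 0 from
      (MvPolynomial.coeff_monomial _ _ _).trans (if_neg fun h => hb (Subtype.ext h)), zero_smul]
  · simp

theorem isQCoh_Od (d : ℤ) : Coh.IsQCoh (O d) :=
  H11Tilde.tilde_isQuasicoherent (H10Coh.Pn.Gr n R) (H10Coh.Pn.Gr n R) d

variable [DCoh.HasRpush (H10Coh.Pn.toS n R)] (hf : DCoh.RpushPreservesQCoh (H10Coh.Pn.toS n R))
  [PreservesFiniteLimits (tilde.functor (CommRingCat.of R))] [HasExt.{u} (Scheme.Modules (Proj (H10Coh.Pn.Gr n R)))]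

local notation "T" => DCoh.tildeD (CommRingCat.of R)
local notation "f" => H10Coh.Pn.toS n R

include hf in
/-- A model of `Rf_*(O(d)[n])` for `d ≤ -n-1`: a projective module in degree zero. -/
theorem exists_model_top (m : ℕ) :
    ∃ (Q : Dual.D R) (_ : (T).obj Q ≅ (DCoh.Rpush f).obj (shObj (O (H29Serre.tw n m)) n)),
      Q.IsLE 0 ∧ ∀ (k : ℤ), k ≠ 0 → ∀ φ : Q⟦k⟧ ⟶ Dual.inD R R, φ = 0 := by
  haveI hfull := (QCohD.full_faithful (CommRingCat.of R)).1
  haveI hfaith := (QCohD.full_faithful (CommRingCat.of R)).2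
  letI := rpushCommShift f
  set d := H29Serre.tw n m with hd
  obtain ⟨Q, ⟨ε⟩⟩ := exists_model f hf (isQCoh_Od n R d) n
  have hge : DerivedCategory.IsGE Q (-(n : ℤ)) := by
    haveI : DerivedCategory.IsGE (DCoh.inD P (O d)) 0 :=
      inferInstanceAs (DerivedCategory.IsGE ((DerivedCategory.singleFunctor (Scheme.Modules P) 0).obj _) 0)
    haveI : DerivedCategory.IsGE ((DCoh.Rpush f).obj (DCoh.inD P (O d))) 0 := KFlat.Stalk.isGE_rpush f _ 0
    haveI : DerivedCategory.IsGE ((DCoh.Rpush f ⋙ shiftFunctor (DCoh.D (Spec (CommRingCat.of R))) (n : ℤ)).obj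
        (DCoh.inD P (O d))) (-(n : ℤ)) :=
      t.isGE_shift ((DCoh.Rpush f).obj (DCoh.inD P (O d))) 0 (n : ℤ) (-(n : ℤ)) (by omega)
    refine (isGE_tilde_iff Q _).1 (t.isGE_of_iso
      ((((DCoh.Rpush f).commShiftIso (n : ℤ)).app (DCoh.inD P (O d))).symm ≪≫ ε.symm) _)
  have hz : ∀ q : ℤ, q ≠ 0 → IsZero ((DerivedCategory.homologyFunctor (ModuleCat.{u} R) q).obj Q) := by
    intro q hq
    by_cases hneg : q < -(n : ℤ)
    · haveI := hge
      exact DerivedCategory.isZero_of_isGE Q _ q hneg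
    · obtain ⟨p, hp⟩ := Int.eq_ofNat_of_zero_le (show 0 ≤ (n : ℤ) + q by omega)
      let εp : (T).obj (Q⟦q⟧) ≅ (DCoh.Rpush f).obj (shObj (O d) p) :=
        ((T).commShiftIso q).app Q ≪≫ (shiftFunctor _ q).mapIso ε ≪≫
          (((DCoh.Rpush f).commShiftIso q).app _).symm ≪≫
          (DCoh.Rpush f).mapIso (((shiftFunctorAdd' (DCoh.D P) (n : ℤ) q (p : ℤ) hp).app _).symm)
      haveI := H10Coh.Pn.subsingleton_HH_Od (R := R) (n := n) (d := d) p
        (by have := H29Serre.tw_le n m; omega) (by omega)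
      haveI : Subsingleton (Dual.HD R (Q⟦q⟧) 0) := (eta f εp).toEquiv.subsingleton
      exact (ModuleCat.isZero_of_subsingleton ((DerivedCategory.homologyFunctor (ModuleCat.{u} R) 0).obj (Q⟦q⟧))).of_iso
        (((DerivedCategory.homologyFunctor (ModuleCat.{u} R) 0).shiftIso q 0 q (add_zero q)).app Q).symm
  haveI hle : DerivedCategory.IsLE Q 0 := (DerivedCategory.isLE_iff _ _).2 fun q h => hz q (by omega)
  haveI : DerivedCategory.IsGE Q 0 := (DerivedCategory.isGE_iff _ _).2 fun q h => hz q (by omega)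
  obtain ⟨M, ⟨eM⟩⟩ := Q.exists_iso_singleFunctor_obj_of_isGE_of_isLE 0
  let el : Dual.HD R Q 0 ≃ₗ[R] Coh.HH P (O d) n :=
    { eta f ε with map_smul' := fun r x => eta_smul f ε r x }
  let eM' : (M : Type u) ≃ₗ[R] Coh.HH P (O d) n :=
    (((DerivedCategory.singleFunctorCompHomologyFunctorIso (ModuleCat.{u} R) 0).app M).symm ≪≫
      (DerivedCategory.homologyFunctor (ModuleCat.{u} R) 0).mapIso eM.symm).toLinearEquiv.trans el
  haveI := projective_top n R m
  haveI : Module.Projective R M := Module.Projective.of_equiv eM'.symm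
  haveI : CategoryTheory.Projective M := (IsProjective.iff_projective M).1 ‹_›
  refine ⟨Q, ε, hle, fun k hk φ => ?_⟩
  haveI : DerivedCategory.IsGE (Dual.inD R R) 0 := inferInstance
  rcases lt_or_gt_of_ne hk with hlt | hgt
  · obtain ⟨l, rfl⟩ : ∃ l : ℕ, k = -((l + 1 : ℕ) : ℤ) := ⟨(-k - 1).toNat, by omega⟩
    let e := (shiftEquiv' (Dual.D R) (-((l + 1 : ℕ) : ℤ)) ((l + 1 : ℕ) : ℤ) (by omega)).toAdjunction.homEquiv Q
      (Dual.inD R R)
    refine e.injective ?_
    have hsub : Subsingleton (Q ⟶ (Dual.inD R R)⟦((l + 1 : ℕ) : ℤ)⟧) := by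
      haveI : Subsingleton (Abelian.Ext.{u} M (ModuleCat.of R R) (l + 1)) :=
        subsingleton_of_forall_eq 0 fun x => x.eq_zero_of_projective
      haveI : Subsingleton ((DerivedCategory.singleFunctor (ModuleCat.{u} R) 0).obj M ⟶
          (Dual.inD R R)⟦((l + 1 : ℕ) : ℤ)⟧) :=
        (Abelian.Ext.homEquiv (X := M) (Y := ModuleCat.of R R) (n := l + 1)).symm.subsingleton
      exact eM.homFromEquiv.subsingleton
    exact @Subsingleton.elim _ hsub _ _
  · haveI : DerivedCategory.IsLE (Q⟦k⟧) (-k) := t.isLE_shift Q 0 k (-k) (by omega)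
    exact t.zero φ (-k) 0 (by omega)

/-- Testing against very negative twists detects zero objects. -/
theorem isZero_of_negative (C : DCoh.D (CohB1.ProjSpace n R)) (hC : DCoh.IsQCohD C)
    (h : ∀ (m : ℕ) (i : ℤ) (φ : (DCoh.inD (CohB1.ProjSpace n R)
      (Twist.twistProjSpace n R (H29Serre.tw n m)))⟦i⟧ ⟶ C), φ = 0) : IsZero C := by
  let O' : ℤ → (CohB1.ProjSpace n R).Modules := fun d => Twist.twistProjSpace n R d
  have hO' : H10Coh.Stab.IsTwistFamily O' := H10Coh.Stab.isTwistFamily_projSpace n R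
  haveI : ∀ d : ℤ, PreservesFiniteLimits (PnD.lw (O' d)) := fun d => (PnD.exact_lw (hO'.inv d)).1
  haveI : ∀ d : ℤ, PreservesFiniteColimits (PnD.lw (O' d)) := fun d => (PnD.exact_lw (hO'.inv d)).2
  let c : ℤ := -((n : ℤ) + 1)
  let C₀ : DCoh.D (CohB1.ProjSpace n R) := C
  let K' := (PnD.lw (O' (-c))).mapDerivedCategory.obj C₀
  obtain ⟨z⟩ := hO'.zero
  obtain ⟨p⟩ := hO'.add c (-c)
  obtain ⟨p'⟩ := hO'.add (-c) c
  obtain ⟨w⟩ := PnD.nonempty_lw_lw (O' c) (O' (-c)) (O' (-c + c)) p' C₀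
  obtain ⟨w'⟩ := PnD.nonempty_lw_one (O' (-c + c)) (eqToIso (congrArg O' (neg_add_cancel c)) ≪≫ z) C₀
  refine (((PnD.lw (O' c)).mapDerivedCategory.map_isZero ?_).of_iso (w ≪≫ w').symm)
  refine S1067.result n R K' (PnD.isQCohD_lw
    (H8Props.FinLocFree.isQCoh_of_isFinLocFree _ (H22Alg.PnVan.finLocFree_of_inv (hO'.inv _))) hC) fun j _ i φ => ?_
  refine (PnD.bijective_lw_map (O' (-c)) (O' c)
    (p ≪≫ eqToIso (congrArg O' (add_neg_cancel c)) ≪≫ z)
    (p' ≪≫ eqToIso (congrArg O' (neg_add_cancel c)) ≪≫ z) _ _).1 ?_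
  show (PnD.lw (O' c)).mapDerivedCategory.map φ = (PnD.lw (O' c)).mapDerivedCategory.map 0
  rw [Functor.map_zero]
  obtain ⟨q⟩ := hO'.add c (-(j : ℤ))
  let eS : (PnD.lw (O' c)).mapDerivedCategory.obj ((DCoh.inD (CohB1.ProjSpace n R) (O' (-(j : ℤ))))⟦i⟧) ≅
      (DCoh.inD (CohB1.ProjSpace n R) (O' (H29Serre.tw n j)))⟦i⟧ :=
    (((PnD.lw (O' c)).mapDerivedCategory.commShiftIso i).app _) ≪≫ (shiftFunctor _ i).mapIso
      (((PnD.lw (O' c)).mapDerivedCategorySingleFunctor 0).app _ ≪≫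
        (DerivedCategory.singleFunctor (CohB1.ProjSpace n R).Modules 0).mapIso
          (q ≪≫ eqToIso (congrArg O' (by unfold H29Serre.tw; omega))))
  have h0 : eS.inv ≫ (PnD.lw (O' c)).mapDerivedCategory.map φ ≫ (w ≪≫ w').hom = 0 := h j i _
  exact (cancel_mono (w ≪≫ w').hom).1 (((cancel_epi eS.inv).1 (h0.trans comp_zero.symm)).trans zero_comp.symm)

/-- `Hom(O(-n-1-m)[i], O(-n-1)[n]) = 0` for `i ≠ n`. -/
theorem hom_twist_eq_zero (m : ℕ) {i : ℤ} (hi : i ≠ (n : ℤ))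
    (φ : (DCoh.inD P (O (H29Serre.tw n m)))⟦i⟧ ⟶ shObj (O (-((n : ℤ) + 1))) n) : φ = 0 := by
  rcases lt_or_gt_of_ne hi with hlt | hgt
  · obtain ⟨l, hl⟩ : ∃ l : ℕ, (n : ℤ) + -i = ((l + 1 : ℕ) : ℤ) := ⟨((n : ℤ) - i - 1).toNat, by omega⟩
    haveI : Subsingleton (Abelian.Ext.{u} (O (H29Serre.tw n m)) (O (-((n : ℤ) + 1))) (l + 1)) :=
      H17.PnExt.subsingleton_ext n R (l + 1) (H10Coh.Pn.subsingleton_HH_Od _ (by omega)
        (by have := H29Serre.tw_add n m; omega))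
    have hsub : Subsingleton (DCoh.inD P (O (H29Serre.tw n m)) ⟶ (DCoh.inD P (O (-((n : ℤ) + 1))))⟦((l + 1 : ℕ) : ℤ)⟧) :=
      (Abelian.Ext.homEquiv (X := O (H29Serre.tw n m)) (Y := O (-((n : ℤ) + 1))) (n := l + 1)).symm.subsingleton
    let e := (shiftEquiv (DCoh.D P) i).toAdjunction.homEquiv (DCoh.inD P (O (H29Serre.tw n m))) (shObj (O (-((n : ℤ) + 1))) n)
    refine e.injective ?_
    let s : ((DCoh.inD P (O (-((n : ℤ) + 1))))⟦((l + 1 : ℕ) : ℤ)⟧) ≅ (shiftFunctor (DCoh.D P) (-i)).obj (shObj (O (-((n : ℤ) + 1))) n) :=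
      (shiftFunctorAdd' (DCoh.D P) (n : ℤ) (-i) _ hl).app _
    exact @Subsingleton.elim _ (@Equiv.subsingleton _ _ s.homToEquiv.symm hsub) _ _
  · haveI : DerivedCategory.IsLE ((DCoh.inD P (O (H29Serre.tw n m)))⟦i⟧) (-i) :=
      t.isLE_shift (DCoh.inD P (O (H29Serre.tw n m))) 0 i (-i) (by omega)
    haveI : DerivedCategory.IsGE (shObj (O (-((n : ℤ) + 1))) n) (-(n : ℤ)) :=
      t.isGE_shift (DCoh.inD P (O (-((n : ℤ) + 1)))) 0 (n : ℤ) (-(n : ℤ)) (by omega)
    exact t.zero φ (-i) (-(n : ℤ)) (by omega)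

variable {a : DCoh.DQCoh (Spec (CommRingCat.of R)) ⥤ DCoh.DQCoh (Proj (H10Coh.Pn.Gr n R))}
  (adj : DCoh.RpushQ (H10Coh.Pn.toS n R) hf ⊣ a) (K : DCoh.DQCoh (Spec (CommRingCat.of R)))
  (eK : K.obj ≅ (DCoh.tildeD (CommRingCat.of R)).obj (Dual.inD R R))

include hf adj eK in
/-- `Hom(O(-n-1-m)[i], a(O)) = 0` for `i ≠ n`. -/
theorem hom_adjoint_eq_zero (m : ℕ) {i : ℤ} (hi : i ≠ (n : ℤ))
    (φ : (DCoh.inD P (O (H29Serre.tw n m)))⟦i⟧ ⟶ (a.obj K).obj) : φ = 0 := by
  haveI hfull := (QCohD.full_faithful (CommRingCat.of R)).1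
  letI := rpushCommShift f
  obtain ⟨Q, ε, -, hQ⟩ := exists_model_top n R hf m
  have hZ := QCohD.HomVanish.isQCohD_shift (TorTest.isQCohD_inD (isQCoh_Od n R (H29Serre.tw n m))) i
  apply (homEquivD adj _ hZ K).injective
  let k : ℤ := i - n
  let e : (T).obj (Q⟦k⟧) ≅ (DCoh.Rpush f).obj ((DCoh.inD P (O (H29Serre.tw n m)))⟦i⟧) :=
    ((T).commShiftIso k).app Q ≪≫ (shiftFunctor _ k).mapIso ε ≪≫
      (((DCoh.Rpush f).commShiftIso k).app _).symm ≪≫
      (DCoh.Rpush f).mapIso (((shiftFunctorAdd' (DCoh.D P) (n : ℤ) k i (by omega)).app _).symm)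
  have : ∀ g : (DCoh.Rpush f).obj ((DCoh.inD P (O (H29Serre.tw n m)))⟦i⟧) ⟶ K.obj, g = 0 := fun g => by
    obtain ⟨g', hg'⟩ := (T).map_surjective (e.hom ≫ g ≫ eK.hom)
    rw [hQ k (by omega) g', Functor.map_zero] at hg'
    rw [← cancel_epi e.hom, ← cancel_mono eK.hom, Category.assoc, ← hg', comp_zero, zero_comp]
  exact (this _).trans (this _).symm


/-- A morphism that is bijective on maps from shifts of test objects is an isomorphism when these detect zero. -/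
theorem isIso_of_tests {C' : Type*} [Category C'] [Preadditive C'] [HasZeroObject C'] [HasShift C' ℤ]
    [∀ k : ℤ, (shiftFunctor C' k).Additive] [Pretriangulated C'] (Pr : C' → Prop) {ι : Type*} (G : ι → C')
    (hdet : ∀ Z, Pr Z → (∀ (j : ι) (i : ℤ) (φ : (G j)⟦i⟧ ⟶ Z), φ = 0) → IsZero Z)
    {A B : C'} (θ : A ⟶ B) (hP : ∀ (Tr : Triangle C'), Tr ∈ distTriang C' → Pr Tr.obj₁ → Pr Tr.obj₂ → Pr Tr.obj₃)
    (hA : Pr A) (hB : Pr B) (hθ : ∀ j (i : ℤ), Function.Bijective fun g : (G j)⟦i⟧ ⟶ A => g ≫ θ) : IsIso θ := by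
  obtain ⟨C, g, δ, hT⟩ := distinguished_cocone_triangle θ
  have hzero : IsZero C := hdet C (hP _ hT hA hB) fun j i φ => by
    have hδ : φ ≫ δ = 0 := by
      obtain ⟨g', hg'⟩ := (shiftFunctor C' (1 : ℤ)).map_surjective
        ((shiftFunctorAdd' C' (i - 1) 1 i (by omega)).inv.app _ ≫ φ ≫ δ)
      have h31 : δ ≫ θ⟦(1 : ℤ)⟧' = 0 := comp_distTriang_mor_zero₃₁ _ hT
      have h2 : g' ≫ θ = 0 := (shiftFunctor C' (1 : ℤ)).map_injective (by
        rw [Functor.map_comp, hg', Functor.map_zero, Category.assoc, Category.assoc, h31, comp_zero, comp_zero])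
      have h3 : g' = 0 := (hθ j (i - 1)).1 (h2.trans zero_comp.symm)
      rw [h3, Functor.map_zero] at hg'
      exact (cancel_epi ((shiftFunctorAdd' C' (i - 1) 1 i (by omega)).inv.app _)).1
        (hg'.symm.trans comp_zero.symm)
    obtain ⟨g₂, hg₂⟩ := Triangle.coyoneda_exact₃ _ hT φ hδ
    obtain ⟨g₁, hg₁⟩ := (hθ j i).2 g₂
    have h12 : θ ≫ g = 0 := comp_distTriang_mor_zero₁₂ _ hT
    refine hg₂.trans ?_
    rw [← hg₁]
    exact (Category.assoc g₁ θ g).trans ((congrArg (g₁ ≫ ·) h12).trans comp_zero)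
  exact (Triangle.isZero₃_iff_isIso₁ _ hT).1 hzero

include hf adj eK in
set_option maxHeartbeats 1000000 in
theorem bijective_comp_theta (QL : Dual.D R) [QL.IsLE 0]
    (εL : (T).obj QL ≅ (DCoh.Rpush f).obj (shObj (O (-((n : ℤ) + 1))) n))
    (hLq : DCoh.IsQCohD (shObj (O (-((n : ℤ) + 1))) n)) (sR : Dual.HD R (Dual.inD R R) 0 ≃ₗ[R] R)
    (τ : QL ⟶ Dual.inD R R) (hτ : ∀ x, hm 0 τ x = sR.symm (H29Serre.trace n R (eta f εL x)))
    (θ : shObj (O (-((n : ℤ) + 1))) n ⟶ (a.obj K).obj)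
    (hc : homEquivD adj _ hLq K θ = εL.inv ≫ (T).map τ ≫ eK.inv) (m : ℕ) (i : ℤ) :
    Function.Bijective fun g : (DCoh.inD P (O (H29Serre.tw n m)))⟦i⟧ ⟶ shObj (O (-((n : ℤ) + 1))) n => g ≫ θ := by
  haveI hfull := (QCohD.full_faithful (CommRingCat.of R)).1
  haveI hfaith := (QCohD.full_faithful (CommRingCat.of R)).2
  haveI : DerivedCategory.IsGE (Dual.inD R R) 0 := inferInstance
  rcases eq_or_ne i (n : ℤ) with rfl | hi
  · obtain ⟨Q, ε, hle, -⟩ := exists_model_top n R hf m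
    haveI := hle
    have hZ : DCoh.IsQCohD (shObj (O (H29Serre.tw n m)) n) := isQCohD_shObj (isQCoh_Od n R _) n
    let v : (O (H29Serre.tw n m) ⟶ O (-((n : ℤ) + 1))) → (Q ⟶ QL) := fun φ =>
      (T).preimage (ε.hom ≫ (DCoh.Rpush f).map (shHom φ n) ≫ εL.inv)
    have hv : ∀ φ, (T).map (v φ) ≫ εL.hom = ε.hom ≫ (DCoh.Rpush f).map (shHom φ n) := fun φ => by
      simp [v]
    have hb : Function.Bijective fun φ : O (H29Serre.tw n m) ⟶ O (-((n : ℤ) + 1)) => v φ ≫ τ := by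
      have hval : ∀ φ (x : Dual.HD R Q 0), hm 0 (v φ ≫ τ) x =
          sR.symm (H29Serre.trace n R (Canon.HHlin R φ n (eta f ε x))) := fun φ x => by
        refine (hm_comp_apply 0 _ _ _).trans ?_
        refine (hτ _).trans ?_
        exact congrArg (fun y => sR.symm (H29Serre.trace n R y)) (eta_naturality f ε εL (v φ) φ (hv φ) x)
      refine ⟨fun φ φ' h => ?_, fun w => ?_⟩
      · let el : Dual.HD R Q 0 ≃ₗ[R] Coh.HH P (O (H29Serre.tw n m)) n :=
          { eta f ε with map_smul' := fun r x => eta_smul f ε r x }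
        obtain ⟨χ, -, hu⟩ := H29Serre.existsUnique_pairing (H29Serre.trace n R ∘ₗ Canon.HHlin R φ n)
        refine (hu φ rfl).trans (hu φ' (LinearMap.ext fun y => ?_)).symm
        obtain ⟨x, rfl⟩ := el.surjective y
        exact sR.symm.injective ((hval φ x).symm.trans ((congrArg (fun g => hm 0 g x) h).trans (hval φ' x)))
      · let el : Dual.HD R Q 0 ≃ₗ[R] Coh.HH P (O (H29Serre.tw n m)) n :=
          { eta f ε with map_smul' := fun r x => eta_smul f ε r x }
        obtain ⟨φ, hφ, -⟩ := H29Serre.existsUnique_pairing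
          (sR.toLinearMap ∘ₗ hm 0 w ∘ₗ el.symm.toLinearMap)
        refine ⟨φ, (bijective_map_homology Q (Dual.inD R R) 0).1 (ModuleCat.hom_ext (LinearMap.ext fun x => ?_))⟩
        refine (hval φ x).trans ((congrArg sR.symm (LinearMap.congr_fun hφ (el x)).symm).trans ?_)
        exact (sR.symm_apply_apply _).trans (congrArg (hm 0 w) (el.symm_apply_apply x))
    have hsh : Function.Bijective fun φ : O (H29Serre.tw n m) ⟶ O (-((n : ℤ) + 1)) => shHom φ n := by
      exact (((shiftFunctor (DCoh.D P) (n : ℤ)).map_injective).comp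
        ((DerivedCategory.singleFunctor (Scheme.Modules P) 0).map_injective)) |> fun hi =>
        ⟨hi, fun g => by
          obtain ⟨g', rfl⟩ := (shiftFunctor (DCoh.D P) (n : ℤ)).map_surjective g
          obtain ⟨φ, rfl⟩ := (DerivedCategory.singleFunctor (Scheme.Modules P) 0).map_surjective g'
          exact ⟨φ, rfl⟩⟩
    refine (Function.Bijective.of_comp_iff _ hsh).1 ?_
    show Function.Bijective fun φ : O (H29Serre.tw n m) ⟶ O (-((n : ℤ) + 1)) => shHom φ n ≫ θ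
    have h1 : (fun φ : O (H29Serre.tw n m) ⟶ O (-((n : ℤ) + 1)) => shHom φ n ≫ θ) = fun φ =>
        (homEquivD adj _ hZ K).symm (ε.inv ≫ (T).map (v φ ≫ τ) ≫ eK.inv) := by
      funext φ
      apply (homEquivD adj _ hZ K).injective
      rw [Equiv.apply_symm_apply, homEquivD_comp adj hLq hZ]
      rw [hc]
      simp [v]
    rw [h1]
    refine (Equiv.bijective _).comp ?_
    exact ((ε.homFromEquiv.trans eK.symm.homToEquiv).bijective.comp
      ⟨(T).map_injective, (T).map_surjective⟩).comp hb |> fun hh => by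
        convert hh using 1
        funext φ
        simp
  · exact ⟨fun g g' _ => (hom_twist_eq_zero n R m hi g).trans (hom_twist_eq_zero n R m hi g').symm,
      fun g => ⟨0, zero_comp.trans (hom_adjoint_eq_zero n R hf adj K eK m hi g).symm⟩⟩

theorem isZero_of_negative' (C : DCoh.D P) (hC : DCoh.IsQCohD C)
    (h : ∀ (m : ℕ) (i : ℤ) (φ : (DCoh.inD P (O (H29Serre.tw n m)))⟦i⟧ ⟶ C), φ = 0) : IsZero C :=
  isZero_of_negative n R C hC h

include hf adj eK in
set_option maxHeartbeats 1000000 in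
/-- **`a(O) ≅ O(-n-1)[n]`.** -/
theorem nonempty_iso : Nonempty ((a.obj K).obj ≅ shObj (O (-((n : ℤ) + 1))) n) := by
  haveI hfull := (QCohD.full_faithful (CommRingCat.of R)).1
  haveI hfaith := (QCohD.full_faithful (CommRingCat.of R)).2
  letI := rpushCommShift f
  have htw0 : H29Serre.tw n 0 = -((n : ℤ) + 1) := by unfold H29Serre.tw; push_cast; ring
  obtain ⟨QL, εL, hLle, -⟩ : ∃ (Q : Dual.D R) (_ : (T).obj Q ≅ (DCoh.Rpush f).obj (shObj (O (-((n : ℤ) + 1))) n)),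
      Q.IsLE 0 ∧ ∀ (k : ℤ), k ≠ 0 → ∀ φ : Q⟦k⟧ ⟶ Dual.inD R R, φ = 0 := htw0 ▸ exists_model_top n R hf 0
  haveI := hLle
  haveI : DerivedCategory.IsGE (Dual.inD R R) 0 := inferInstance
  let sR : Dual.HD R (Dual.inD R R) 0 ≃ₗ[R] R :=
    ((DerivedCategory.singleFunctorCompHomologyFunctorIso (ModuleCat.{u} R) 0).app (ModuleCat.of R R)).toLinearEquiv
  let Ψ : Dual.HD R QL 0 →ₗ[R] Dual.HD R (Dual.inD R R) 0 :=
    { toFun := fun x => sR.symm (H29Serre.trace n R (eta f εL x))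
      map_add' := fun x y => by rw [map_add, map_add, map_add]
      map_smul' := fun r x => (congrArg sR.symm ((congrArg (H29Serre.trace n R) (eta_smul f εL r x)).trans
        ((H29Serre.trace n R).map_smul r _))).trans (sR.symm.map_smul r _) }
  obtain ⟨τ, hτ⟩ := (bijective_map_homology QL (Dual.inD R R) 0).2 (ModuleCat.ofHom Ψ)
  have hLq : DCoh.IsQCohD (shObj (O (-((n : ℤ) + 1))) n) := isQCohD_shObj (isQCoh_Od n R _) n
  let c : (DCoh.Rpush f).obj (shObj (O (-((n : ℤ) + 1))) n) ⟶ K.obj := εL.inv ≫ (T).map τ ≫ eK.inv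
  let θ := (homEquivD adj _ hLq K).symm c
  have hθ := bijective_comp_theta n R hf adj K eK QL εL hLq sR τ (fun x => congr($(hτ).hom x)) θ
    (Equiv.apply_symm_apply _ _)
  haveI := isIso_of_tests (C' := DCoh.D P) DCoh.IsQCohD (fun m : ℕ => DCoh.inD P (O (H29Serre.tw n m)))
    (fun Z hZ h => isZero_of_negative' n R Z hZ h) θ
    (fun Tr hTr h₁ h₂ => QCohD.AffineUnit.isQCohD_obj₃ hTr h₁ h₂) hLq (a.obj K).property hθ
  exact ⟨(asIso θ).symm⟩

end Groth.Agent.H4RepDual.PnDual
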