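import Mathlib.Algebra.Homology.DerivedCategory.TStructure
import Mathlib.CategoryTheory.Triangulated.TStructure.TruncLTGE
import Mathlib.Algebra.Homology.DerivedCategory.HomologySequence
import Mathlib.Algebra.Homology.DerivedCategory.FullyFaithful

/-!
# Morphisms between a left and a right bounded object
-/

set_option autoImplicit false
set_option linter.style.haveILetI false

universe w v u

open CategoryTheory CategoryTheory.Limits CategoryTheory.Pretriangulated
open DerivedCategory DerivedCategory.TStructure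

namespace Groth.Agent.H4RepDual

variable {C : Type u} [Category.{v} C] [Abelian C] [HasDerivedCategory.{w} C]

theorem exists_single_proj (K : DerivedCategory C) (b : ℤ) [K.IsLE b] :
    ∃ (M : C) (p : K ⟶ (singleFunctor C b).obj M), IsIso ((homologyFunctor C b).map p) ∧
      ∀ L : DerivedCategory C, L.IsGE b → Function.Bijective fun g : (singleFunctor C b).obj M ⟶ L => p ≫ g := by
  obtain ⟨X₁, X₃, hX₁, hX₃, f₁, f₂, f₃, hT⟩ := t.exists_triangle K (b - 1) b (by omega)
  let T := Triangle.mk f₁ f₂ f₃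
  change T ∈ distTriang _ at hT
  haveI : DerivedCategory.IsLE T.obj₁ (b - 1) := ⟨hX₁⟩
  haveI : DerivedCategory.IsGE T.obj₃ b := ⟨hX₃⟩
  haveI : DerivedCategory.IsLE T.obj₁ b := t.isLE_of_le T.obj₁ (b - 1) b (by omega)
  haveI : DerivedCategory.IsLE T.obj₃ b := by
    refine (isLE_iff _ _).2 fun i hi => ?_
    have h := HomologySequence.exact₃ _ hT i (i + 1) rfl
    exact h.isZero_of_both_zeros ((isZero_of_isLE K b i hi).eq_of_src _ _)
      ((isZero_of_isLE T.obj₁ b (i + 1) (by omega)).eq_of_tgt _ _)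
  obtain ⟨M, ⟨(e : X₃ ≅ _)⟩⟩ := T.obj₃.exists_iso_singleFunctor_obj_of_isGE_of_isLE b
  haveI : IsIso ((homologyFunctor C b).map f₂) := by
    show IsIso ((homologyFunctor C b).map T.mor₂)
    haveI : Mono ((homologyFunctor C b).map T.mor₂) :=
      (HomologySequence.exact₂ _ hT b).mono_g ((isZero_of_isLE T.obj₁ (b - 1) b (by omega)).eq_of_src _ _)
    haveI : Epi ((homologyFunctor C b).map T.mor₂) :=
      (HomologySequence.exact₃ _ hT b (b + 1) rfl).epi_f
        ((isZero_of_isLE T.obj₁ (b - 1) (b + 1) (by omega)).eq_of_tgt _ _)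
    exact isIso_of_mono_of_epi _
  refine ⟨M, f₂ ≫ e.hom, ?_, fun L hL => ⟨fun g g' h => ?_, fun f => ?_⟩⟩
  · rw [Functor.map_comp]; exact IsIso.comp_isIso
  · refine sub_eq_zero.1 ?_
    have h0 : f₂ ≫ e.hom ≫ (g - g') = 0 := by
      rw [← Category.assoc, Preadditive.comp_sub]; exact sub_eq_zero.2 h
    obtain ⟨φ, hφ⟩ := T.yoneda_exact₃ hT _ h0
    rw [← cancel_epi e.hom, comp_zero, hφ]
    haveI : DerivedCategory.IsLE (T.obj₁⟦(1 : ℤ)⟧) (b - 2) := t.isLE_shift T.obj₁ (b - 1) 1 (b - 2) (by omega)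
    rw [show φ = 0 from t.zero φ (b - 2) b (by omega), comp_zero]
    rfl
  · obtain ⟨g, hg⟩ := T.yoneda_exact₂ hT f (t.zero _ (b - 1) b (by omega))
    refine ⟨e.inv ≫ g, ?_⟩
    show (f₂ ≫ e.hom) ≫ e.inv ≫ g = f
    rw [Category.assoc, e.hom_inv_id_assoc]
    exact hg.symm

theorem exists_single_incl (L : DerivedCategory C) (b : ℤ) [L.IsGE b] :
    ∃ (N : C) (j : (singleFunctor C b).obj N ⟶ L), IsIso ((homologyFunctor C b).map j) ∧
      ∀ K : DerivedCategory C, K.IsLE b → Function.Bijective fun g : K ⟶ (singleFunctor C b).obj N => g ≫ j := by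
  obtain ⟨X₁, X₃, hX₁, hX₃, f₁, f₂, f₃, hT⟩ := t.exists_triangle L b (b + 1) rfl
  let T := Triangle.mk f₁ f₂ f₃
  change T ∈ distTriang _ at hT
  haveI : DerivedCategory.IsLE T.obj₁ b := ⟨hX₁⟩
  haveI : DerivedCategory.IsGE T.obj₃ (b + 1) := ⟨hX₃⟩
  haveI : DerivedCategory.IsGE T.obj₃ b := t.isGE_of_ge T.obj₃ b (b + 1) (by omega)
  haveI : DerivedCategory.IsGE T.obj₁ b := by
    refine (isGE_iff _ _).2 fun i hi => ?_
    have h := HomologySequence.exact₁ _ hT (i - 1) i (by omega)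
    exact h.isZero_of_both_zeros ((isZero_of_isGE T.obj₃ b (i - 1) (by omega)).eq_of_src _ _)
      ((isZero_of_isGE L b i hi).eq_of_tgt _ _)
  obtain ⟨N, ⟨(e : X₁ ≅ _)⟩⟩ := T.obj₁.exists_iso_singleFunctor_obj_of_isGE_of_isLE b
  haveI : IsIso ((homologyFunctor C b).map f₁) := by
    show IsIso ((homologyFunctor C b).map T.mor₁)
    haveI : Epi ((homologyFunctor C b).map T.mor₁) :=
      (HomologySequence.exact₂ _ hT b).epi_f ((isZero_of_isGE T.obj₃ (b + 1) b (by omega)).eq_of_tgt _ _)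
    haveI : Mono ((homologyFunctor C b).map T.mor₁) :=
      (HomologySequence.exact₁ _ hT (b - 1) b (by omega)).mono_g
        ((isZero_of_isGE T.obj₃ (b + 1) (b - 1) (by omega)).eq_of_src _ _)
    exact isIso_of_mono_of_epi _
  refine ⟨N, e.inv ≫ f₁, ?_, fun K hK => ⟨fun g g' h => ?_, fun f => ?_⟩⟩
  · rw [Functor.map_comp]; exact IsIso.comp_isIso
  · refine sub_eq_zero.1 ?_
    have h0 : ((g - g') ≫ e.inv) ≫ f₁ = 0 := by
      rw [Category.assoc, Preadditive.sub_comp]; exact sub_eq_zero.2 h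
    obtain ⟨φ, hφ⟩ := T.invRotate.coyoneda_exact₂ (inv_rot_of_distTriang _ hT) _ h0
    rw [← cancel_mono e.inv, zero_comp, hφ]
    haveI : DerivedCategory.IsGE (T.obj₃⟦(-1 : ℤ)⟧) (b + 2) := t.isGE_shift T.obj₃ (b + 1) (-1) (b + 2) (by omega)
    haveI : t.IsGE T.invRotate.obj₁ (b + 2) := this
    rw [show φ = 0 from t.zero φ b (b + 2) (by omega)]
    exact zero_comp
  · obtain ⟨(g : K ⟶ X₁), hg⟩ := T.coyoneda_exact₂ hT f (t.zero _ b (b + 1) (by omega))
    refine ⟨g ≫ e.hom, ?_⟩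
    show (g ≫ e.hom) ≫ e.inv ≫ f₁ = f
    rw [Category.assoc, e.hom_inv_id_assoc]
    exact hg.symm

theorem bijective_map_homology (K L : DerivedCategory C) (b : ℤ) [K.IsLE b] [L.IsGE b] :
    Function.Bijective fun g : K ⟶ L => (homologyFunctor C b).map g := by
  obtain ⟨M, p, hp, hp'⟩ := exists_single_proj K b
  obtain ⟨N, j, hj, hj'⟩ := exists_single_incl L b
  haveI := hp
  haveI := hj
  have hd : Function.Bijective fun u : M ⟶ N => p ≫ (singleFunctor C b).map u ≫ j :=
    ((hp' L ‹_›).comp ((hj' _ inferInstance).comp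
      ⟨fun u v h => (singleFunctor C b).map_injective h, (singleFunctor C b).map_surjective⟩))
  let e := (singleFunctorCompHomologyFunctorIso C b)
  refine (Function.Bijective.of_comp_iff _ hd).1 ?_
  have : ((fun g : K ⟶ L => (homologyFunctor C b).map g) ∘ fun u : M ⟶ N => p ≫ (singleFunctor C b).map u ≫ j) =
      fun u => ((homologyFunctor C b).map p ≫ e.hom.app M) ≫ u ≫ e.inv.app N ≫ (homologyFunctor C b).map j := by
    funext u
    simp only [Function.comp_apply, Functor.map_comp, Category.assoc]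
    refine congrArg (_ ≫ ·) ?_
    rw [← Category.assoc (e.hom.app M)]
    erw [← e.hom.naturality u]
    simp
  rw [this]
  refine ⟨fun u v h => ?_, fun w => ⟨inv ((homologyFunctor C b).map p ≫ e.hom.app M) ≫ w ≫
    inv (e.inv.app N ≫ (homologyFunctor C b).map j), by simp⟩⟩
  exact (cancel_mono (e.inv.app N ≫ (homologyFunctor C b).map j)).1 ((cancel_epi _).1 h)

end Groth.Agent.H4RepDual
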