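import Groth.Agent.H4RepDual.Bound
import Groth.Agent.H4DR.Dualizing.Normalized
import Groth.Agent.S0403

/-!
# Representability over a Noetherian local ring with a normalized dualizing complex
-/

set_option autoImplicit false
set_option linter.style.haveILetI false
set_option linter.unusedSectionVars false
set_option backward.isDefEq.respectTransparency false
set_option synthInstance.maxHeartbeats 400000

universe u

open CategoryTheory CategoryTheory.Limits AlgebraicGeometry
open DerivedCategory.TStructure

attribute [local instance] HasDerivedCategory.standard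

namespace Groth.Agent.H4RepDual

attribute [local instance 10000] H10Coh.hasSheafifyAb H10Coh.hasWeakSheafifyAb H10Coh.hasExtAb H10Coh.enoughInjAb

theorem isGE_of_normalized {A : Type u} [CommRing A] [IsLocalRing A] [IsNoetherianRing A] {ω : Dual.D A}
    (hω : Dual.IsDualizing A ω) (hn : Dual.IsNormalized A ω) (dA : ℕ) (hdA : ringKrullDim A = dA) :
    ω.IsGE (-(dA : ℤ)) := by
  rw [DerivedCategory.isGE_iff]
  intro i hi
  by_contra hne
  have hnt : Nontrivial (Dual.HD A ω i) := not_subsingleton_iff_nontrivial.1 fun h =>
    hne (@ModuleCat.isZero_of_subsingleton _ _ _ h)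
  haveI := (H4DR.Ext.evalEquiv ω i).toEquiv.nontrivial_congr.2 hnt
  have h := ((H4DR.Dualizing.dimBound hω hn A i).2 inferInstance).1
  rw [Module.supportDim_self_eq_ringKrullDim, hdA] at h
  have : ((-i).toNat : ℕ) ≤ dA := by exact_mod_cast h
  omega

/-- Over a local ring every fibre has dimension at most that of the closed fibre. -/
theorem dim_fiber_le {A : Type u} [CommRing A] [IsLocalRing A] {X : Scheme.{u}} (f : X ⟶ Spec (CommRingCat.of A))
    [IsProper f] {c : WithBot ℕ∞} (hd : topologicalKrullDim (f.fiber (IsLocalRing.closedPoint A)) ≤ c)
    (y : Spec (CommRingCat.of A)) : topologicalKrullDim (f.fiber y) ≤ c :=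
  (IsLocalRing.specializes_closedPoint (R := A) y).mem_open (S0403.result f c) hd

end Groth.Agent.H4RepDual
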