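import Groth.Agent.H4RepDual.Heart
import Groth.Agent.H4RepDual.Bridge
import Groth.Agent.H16Derived.KFlat.PerfTilde
import Groth.Agent.H16Derived.TorTest.RpushAmp
import Groth.Agent.H16Derived.QCohD.HomVanish
import Groth.Agent.LeadBrown.Adjoint

/-!
# The lowest cohomology of the right adjoint represents the dual of the top cohomology
-/

set_option autoImplicit false
set_option linter.style.haveILetI false
set_option linter.unusedSectionVars false
set_option backward.isDefEq.respectTransparency false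
set_option synthInstance.maxHeartbeats 400000

universe u

open CategoryTheory CategoryTheory.Limits AlgebraicGeometry Opposite
open Groth.Agent.H16Derived.KFlat.Stalk
open Groth.Agent.LeadBrown (mu homEquivD rpush_mu mu_naturality)
open Groth.Agent.H17.ExtRegVanish (mulEnd)
open Groth.Agent.H4DR.PCoh (hm hm_comp_apply)

attribute [local instance] HasDerivedCategory.standard

namespace Groth.Agent.H4RepDual

attribute [local instance 10000] H10Coh.hasSheafifyAb H10Coh.hasWeakSheafifyAb H10Coh.hasExtAb H10Coh.enoughInjAb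

variable {A : Type u} [CommRing A] {X : Scheme.{u}} (f : X ⟶ Spec (CommRingCat.of A)) [DCoh.HasRpush f]
  (hf : DCoh.RpushPreservesQCoh f) [PreservesFiniteLimits (tilde.functor (CommRingCat.of A))]

/-- `M[n]`. -/
noncomputable abbrev shObj (M : X.Modules) (n : ℕ) : DCoh.D X := (DCoh.inD X M)⟦(n : ℤ)⟧

/-- The map of `φ` on `M[n]`. -/
noncomputable abbrev shHom {M N : X.Modules} (φ : M ⟶ N) (n : ℕ) : shObj M n ⟶ shObj N n :=
  ((DerivedCategory.singleFunctor X.Modules 0).map φ)⟦(n : ℤ)⟧'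

theorem isQCohD_shObj {M : X.Modules} (hM : Coh.IsQCoh M) (n : ℕ) : DCoh.IsQCohD (shObj M n) :=
  H16Derived.QCohD.HomVanish.isQCohD_shift (H16Derived.TorTest.isQCohD_inD hM) _

include hf in
theorem exists_model {M : X.Modules} (hM : Coh.IsQCoh M) (n : ℕ) :
    ∃ R : Dual.D A, Nonempty ((DCoh.tildeD (CommRingCat.of A)).obj R ≅ (DCoh.Rpush f).obj (shObj M n)) :=
  H16Derived.QCohD.exists_tildeD_iso (R := CommRingCat.of A) (hf _ (isQCohD_shObj hM n))

variable [HasExt.{u} X.Modules]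

/-- `H^0` of a model of `Rf_*(M[n])` is `H^n(X, M)`. -/
noncomputable def eta {M : X.Modules} {n : ℕ} {R : Dual.D A}
    (ε : (DCoh.tildeD (CommRingCat.of A)).obj R ≅ (DCoh.Rpush f).obj (shObj M n)) :
    Dual.HD A R 0 ≃+ Coh.HH X M n :=
  (h0Equiv f ε).symm.trans (AddEquiv.ofBijective (toHH M n) (bijective_toHH M n))

theorem eta_naturality {M N : X.Modules} {n : ℕ} {R R' : Dual.D A}
    (ε : (DCoh.tildeD (CommRingCat.of A)).obj R ≅ (DCoh.Rpush f).obj (shObj M n))
    (ε' : (DCoh.tildeD (CommRingCat.of A)).obj R' ≅ (DCoh.Rpush f).obj (shObj N n)) (v : R ⟶ R') (φ : M ⟶ N)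
    (h : (DCoh.tildeD (CommRingCat.of A)).map v ≫ ε'.hom = ε.hom ≫ (DCoh.Rpush f).map (shHom φ n))
    (m : Dual.HD A R 0) :
    eta f ε' (hm 0 v m) = Sheaf.H.map ((SheafOfModules.toSheaf X.ringCatSheaf).map φ) n (eta f ε m) := by
  obtain ⟨g, rfl⟩ := (h0Equiv f ε).surjective m
  rw [← h0Equiv_naturality f ε ε' v (shHom φ n) h g]
  simp only [eta, AddEquiv.trans_apply, AddEquiv.symm_apply_apply, AddEquiv.ofBijective_apply]
  exact toHH_naturality φ n g

/-- Scalars. -/
theorem eta_smul {M : X.Modules} {n : ℕ} {R : Dual.D A}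
    (ε : (DCoh.tildeD (CommRingCat.of A)).obj R ≅ (DCoh.Rpush f).obj (shObj M n)) (a : A) (m : Dual.HD A R 0) :
    eta f ε (a • m) = Sheaf.H.map (Coh.smulAb M (Coh.toGlobal f a)) n (eta f ε m) := by
  have hsq : (DCoh.tildeD (CommRingCat.of A)).map (a • 𝟙 R) ≫ ε.hom =
      ε.hom ≫ (DCoh.Rpush f).map (shHom (mulEnd (f.appTop (rhoS A a)) M) n) := by
    rw [tildeD_map_smul_id]
    refine (mu_naturality (rhoS A a) ε.hom).symm.trans (congrArg (ε.hom ≫ ·) ?_)
    rw [shHom, ← mu_inD_shift]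
    exact (rpush_mu f (rhoS A a) _).symm
  have h := eta_naturality f ε ε (a • 𝟙 R) (mulEnd (f.appTop (rhoS A a)) M) hsq m
  have he : hm 0 (a • 𝟙 R) m = a • m := by
    show ((H4DR.PCoh.H A 0).map (a • 𝟙 R)).hom m = a • m
    rw [H4DR.Hom.H_map_smul, CategoryTheory.Functor.map_id]
    rfl
  rw [he] at h
  exact h

variable {a : DCoh.DQCoh (Spec (CommRingCat.of A)) ⥤ DCoh.DQCoh X} (adj : DCoh.RpushQ f hf ⊣ a)

include hf adj in
/-- The universal form on the top cohomology of the lowest cohomology of `a(K)`. -/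
theorem exists_trace_aux (d : ℕ) (hbound : ∀ M : X.Modules, Coh.IsQCoh M → ((DCoh.Rpush f).obj (DCoh.inD X M)).IsLE d)
    (K : DCoh.DQCoh (Spec (CommRingCat.of A))) (ω : Dual.D A) (hω : ω.IsGE 0)
    (eK : K.obj ≅ (DCoh.tildeD (CommRingCat.of A)).obj ω) (hlow : (a.obj K).obj.IsGE (-(d : ℤ))) :
    ∃ t : Coh.HH X (DCoh.HD (a.obj K).obj (-(d : ℤ))) d →+ Dual.HD A ω 0,
      (∀ (r : A) x, t (Sheaf.H.map (Coh.smulAb _ (Coh.toGlobal f r)) d x) = r • t x) ∧
      ∀ (F : X.Modules), Coh.IsQCoh F → ∀ ψ : Coh.HH X F d →+ Dual.HD A ω 0,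
        (∀ (r : A) x, ψ (Sheaf.H.map (Coh.smulAb F (Coh.toGlobal f r)) d x) = r • ψ x) →
        ∃! φ : F ⟶ DCoh.HD (a.obj K).obj (-(d : ℤ)), ∀ x : Coh.HH X F d,
          ψ x = t (Sheaf.H.map ((SheafOfModules.toSheaf X.ringCatSheaf).map φ) d x) := by
  haveI := hlow
  haveI := hω
  haveI hfull := (H16Derived.QCohD.full_faithful (CommRingCat.of A)).1
  haveI hfaith := (H16Derived.QCohD.full_faithful (CommRingCat.of A)).2
  letI := rpushCommShift f
  let T := DCoh.tildeD (CommRingCat.of A)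
  let ωX := DCoh.HD (a.obj K).obj (-(d : ℤ))
  have hωX : Coh.IsQCoh ωX := (a.obj K).property _
  obtain ⟨N, j₀, hj, hj'⟩ := exists_single_incl (a.obj K).obj (-(d : ℤ))
  haveI := hj
  -- the object in degree `-d`
  let σ := fun M : X.Modules =>
    ((DerivedCategory.singleFunctors X.Modules).shiftIso (d : ℤ) (-(d : ℤ)) 0 (by omega)).app M
  let eN : N ≅ ωX := ((DerivedCategory.singleFunctorCompHomologyFunctorIso X.Modules (-(d : ℤ))).app N).symm ≪≫
    asIso ((DerivedCategory.homologyFunctor X.Modules (-(d : ℤ))).map j₀)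
  let j : shObj ωX d ⟶ (a.obj K).obj :=
    shHom eN.inv d ≫ (σ N).hom ≫ j₀
  have hE : ∀ F : X.Modules, DerivedCategory.IsLE (shObj F d) (-(d : ℤ)) := fun F =>
    DerivedCategory.TStructure.t.isLE_shift (DCoh.inD X F) 0 (d : ℤ) (-(d : ℤ)) (by omega)
  have hjb : ∀ F : X.Modules, Function.Bijective fun φ : F ⟶ ωX => shHom φ d ≫ j := fun F => by
    haveI := hE F
    have h1 : Function.Bijective fun φ : F ⟶ ωX => shHom φ d := by
      refine Function.Bijective.comp ⟨(shiftFunctor (DCoh.D X) (d : ℤ)).map_injective,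
        (shiftFunctor (DCoh.D X) (d : ℤ)).map_surjective⟩ ?_
      exact ⟨(DerivedCategory.singleFunctor X.Modules 0).map_injective,
        (DerivedCategory.singleFunctor X.Modules 0).map_surjective⟩
    have h2 : Function.Bijective fun g : shObj F d ⟶ shObj ωX d => g ≫ shHom eN.inv d ≫ (σ N).hom :=
      ((shiftFunctor (DCoh.D X) (d : ℤ)).mapIso ((DerivedCategory.singleFunctor X.Modules 0).mapIso eN.symm) ≪≫
        σ N).homToEquiv.bijective
    have := (hj' (shObj F d) ‹_›).comp (h2.comp h1)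
    convert this using 1
    funext φ
    simp [j]
  -- models
  choose R hR using fun (F : X.Modules) (hF : Coh.IsQCoh F) => exists_model f hf hF d
  let ε := fun (F : X.Modules) (hF : Coh.IsQCoh F) => (hR F hF).some
  have hRle : ∀ F hF, (R F hF).IsLE 0 := fun F hF => by
    refine (H16Derived.KFlat.Stalk.isLE_tilde_iff (R F hF) 0).1 ?_
    haveI := hbound F hF
    haveI : DerivedCategory.IsLE (((DCoh.Rpush f).obj (DCoh.inD X F))⟦(d : ℤ)⟧) 0 :=
      DerivedCategory.TStructure.t.isLE_shift _ (d : ℤ) (d : ℤ) 0 (by omega)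
    haveI : DerivedCategory.IsLE ((DCoh.Rpush f ⋙ shiftFunctor (DCoh.D (Spec (CommRingCat.of A))) (d : ℤ)).obj
        (DCoh.inD X F)) 0 := ‹DerivedCategory.IsLE (((DCoh.Rpush f).obj (DCoh.inD X F))⟦(d : ℤ)⟧) 0›
    exact DerivedCategory.TStructure.t.isLE_of_iso
      ((((DCoh.Rpush f).commShiftIso (d : ℤ)).app (DCoh.inD X F)).symm ≪≫ (ε F hF).symm) 0
  let c := homEquivD adj (shObj ωX d) (isQCohD_shObj hωX d) K j
  let τ : R ωX hωX ⟶ ω := T.preimage ((ε ωX hωX).hom ≫ c ≫ eK.hom)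
  let η := fun (F : X.Modules) (hF : Coh.IsQCoh F) => eta f (ε F hF)
  refine ⟨(hm 0 τ).toAddMonoidHom.comp (η ωX hωX).symm.toAddMonoidHom, fun r x => ?_, fun F hF ψ hψ => ?_⟩
  · obtain ⟨m, rfl⟩ := (η ωX hωX).surjective x
    simp only [AddMonoidHom.comp_apply, AddEquiv.coe_toAddMonoidHom, LinearMap.toAddMonoidHom_coe]
    rw [← eta_smul f (ε ωX hωX) r m, AddEquiv.symm_apply_apply, AddEquiv.symm_apply_apply, map_smul]
  · haveI := hRle F hF
    let v : (F ⟶ ωX) → (R F hF ⟶ R ωX hωX) := fun φ =>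
      T.preimage ((ε F hF).hom ≫ (DCoh.Rpush f).map (shHom φ d) ≫ (ε ωX hωX).inv)
    have hv : ∀ φ, T.map (v φ) ≫ (ε ωX hωX).hom = (ε F hF).hom ≫ (DCoh.Rpush f).map (shHom φ d) := fun φ => by
      simp [v, T]
    have hb : Function.Bijective fun φ : F ⟶ ωX => v φ ≫ τ := by
      have h1 : (fun φ : F ⟶ ωX => T.map (v φ ≫ τ)) =
          fun φ => ((ε F hF).symm.homFromEquiv
            (eK.homToEquiv (homEquivD adj (shObj F d) (isQCohD_shObj hF d) K (shHom φ d ≫ j)))) := by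
        funext φ
        rw [LeadBrown.homEquivD_comp adj (isQCohD_shObj hωX d) (isQCohD_shObj hF d)]
        simp [v, τ, T, c]
      have h2 : Function.Bijective fun φ : F ⟶ ωX => T.map (v φ ≫ τ) :=
        h1 ▸ (ε F hF).symm.homFromEquiv.bijective.comp (eK.homToEquiv.bijective.comp
          ((homEquivD adj (shObj F d) (isQCohD_shObj hF d) K).bijective.comp (hjb F)))
      exact ⟨fun φ φ' h => h2.1 (congrArg T.map h), fun w => by
        obtain ⟨φ, hφ⟩ := h2.2 (T.map w); exact ⟨φ, T.map_injective hφ⟩⟩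
    have hb' := (bijective_map_homology (R F hF) ω 0).comp hb
    have hval : ∀ (φ : F ⟶ ωX) (m : Dual.HD A (R F hF) 0),
        hm 0 (v φ ≫ τ) m = hm 0 τ ((η ωX hωX).symm
          (Sheaf.H.map ((SheafOfModules.toSheaf X.ringCatSheaf).map φ) d (η F hF m))) := fun φ m => by
      rw [← eta_naturality f (ε F hF) (ε ωX hωX) (v φ) φ (hv φ) m, AddEquiv.symm_apply_apply]
      exact hm_comp_apply 0 _ _ _
    let Ψ : Dual.HD A (R F hF) 0 →ₗ[A] Dual.HD A ω 0 :=
      { toFun := fun m => ψ (η F hF m), map_add' := fun x y => by rw [map_add, map_add]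
        map_smul' := fun r m => (congrArg ψ (eta_smul f (ε F hF) r m)).trans (hψ r _) }
    obtain ⟨φ, hφ⟩ := hb'.2 (ModuleCat.ofHom Ψ)
    refine ⟨φ, fun x => ?_, fun φ' h' => hb'.1 (Eq.trans ?_ hφ.symm)⟩
    · obtain ⟨m, rfl⟩ := (η F hF).surjective x
      exact (congr($(hφ.symm).hom m)).trans (hval φ m)
    · exact ModuleCat.hom_ext (LinearMap.ext fun m => (hval φ' m).trans (h' (η F hF m)).symm)

end Groth.Agent.H4RepDual
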