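import Groth.Agent.H4RepDual.PointSupp
import Groth.Agent.S7268

/-!
# The right adjoint of `Rf_*` at a closed point, as a functor on the residue field
-/

set_option autoImplicit false
set_option linter.style.haveILetI false
set_option linter.unusedSectionVars false
set_option backward.isDefEq.respectTransparency false
set_option maxHeartbeats 800000
set_option synthInstance.maxHeartbeats 400000

universe u

open CategoryTheory CategoryTheory.Limits AlgebraicGeometry Opposite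

attribute [local instance] HasDerivedCategory.standard

namespace Groth.Agent.H4RepDual

open Groth.Agent.H16Derived Groth.Agent.H16Derived.Thomason Groth.Agent.H16Derived.KFlat.Stalk

/-- The maps into the value of a right adjoint, as a functor. -/
noncomputable def yonedaAdjIso {C D : Type*} [Category.{u + 1} C] [Category.{u + 1} D] {L : C ⥤ D} {R : D ⥤ C}
    (adj : L ⊣ R) (Y : D) : yoneda.obj (R.obj Y) ≅ L.op ⋙ yoneda.obj Y :=
  NatIso.ofComponents (fun Z => (adj.homEquiv Z.unop Y).symm.toIso)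
    (fun {Z Z'} g => by ext φ; exact adj.homEquiv_naturality_left_symm g.unop φ)

/-- A fully faithful functor does not change the maps. -/
noncomputable def yonedaFFIso {B C D : Type*} [Category B] [Category.{u + 1} C] [Category.{u + 1} D] (G : B ⥤ C)
    {T : C ⥤ D} (hT : T.FullyFaithful) (Y : C) : G.op ⋙ yoneda.obj Y ≅ (G ⋙ T).op ⋙ yoneda.obj (T.obj Y) :=
  NatIso.ofComponents (fun Z => (hT.homEquiv (X := G.obj Z.unop) (Y := Y)).toIso)
    (fun {Z Z'} g => by ext φ; exact T.map_comp _ _)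

/-- Composing with a map that is bijective on maps from the values of a functor. -/
noncomputable def yonedaCompIso {B D : Type*} [Category B] [Category.{u + 1} D] (G : B ⥤ D) {Y Y' : D} (η : Y ⟶ Y')
    (h : ∀ Z : B, Function.Bijective fun φ : G.obj Z ⟶ Y => φ ≫ η) :
    G.op ⋙ yoneda.obj Y ≅ G.op ⋙ yoneda.obj Y' :=
  NatIso.ofComponents (fun Z => (Equiv.ofBijective _ (h Z.unop)).toIso)
    (fun {Z Z'} g => by ext φ; exact Category.assoc _ _ _)

section Chart

variable {X : Scheme.{u}} {B k : Type u} [CommRing B] [Field k] (j : Spec (CommRingCat.of B) ⟶ X) [IsOpenImmersion j]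
  (ψ : B →+* k) [PreservesFiniteLimits (tilde.functor (CommRingCat.of B))]
  [PreservesFiniteLimits (tilde.functor (CommRingCat.of k))]

/-- The maps from point objects at a closed point, through a chart. -/
theorem nonempty_chartYoneda (hx : IsClosed ({j.base ((Spec.map (CommRingCat.ofHom ψ)).base default)} : Set X))
    (i : Spec (CommRingCat.of k) ⟶ X) (hi : Spec.map (CommRingCat.ofHom ψ) ≫ j = i) [DCoh.HasRpush i]
    (E : DCoh.D X) (ω : Dual.D B) (e : (DCoh.tildeD (CommRingCat.of B)).obj ω ≅ (rd j).obj E)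
    {R : Dual.D B ⥤ Dual.D k} (adj : DRing.restrictD ψ ⊣ R) :
    Nonempty (yoneda.obj (R.obj ω) ≅ (DCoh.tildeD (CommRingCat.of k) ⋙ DCoh.Rpush i).op ⋙ yoneda.obj E) := by
  let π := Spec.map (CommRingCat.ofHom ψ)
  let q := π.base default
  haveI := QCohD.hasRpush π
  haveI := QCohD.hasRpush j
  haveI := QCohD.hasRpush (π ≫ j)
  haveI := (QCohD.full_faithful (CommRingCat.of B)).1
  haveI := (QCohD.full_faithful (CommRingCat.of B)).2
  obtain ⟨σ⟩ := S7268.result ψ
  haveI := isIso_restrictRpushAdj_counit j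
  let G := DCoh.tildeD (CommRingCat.of k) ⋙ DCoh.Rpush π
  let ffT : (DCoh.tildeD (CommRingCat.of B)).FullyFaithful := Functor.FullyFaithful.ofFullyFaithful _
  let ffR : (DCoh.Rpush j).FullyFaithful := (restrictRpushAdj j).fullyFaithfulROfIsIsoCounit
  have hsupp : ∀ (Z : Dual.D k) (w : Spec (CommRingCat.of B)), j.base w ∉ ({j.base q} : Set X) → ∀ n : ℤ,
      w ∉ CohB1.support (DCoh.HD (G.obj Z) n) := by
    intro Z w hw n hn
    have hqc : IsClosed ({q} : Set (Spec (CommRingCat.of B))) := by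
      have h1 := hx.preimage j.continuous
      rwa [show (j.base ⁻¹' {j.base q}) = {q} from Set.ext fun w => j.isOpenEmbedding.injective.eq_iff] at h1
    let V : (Spec (CommRingCat.of B)).Opens := ⟨{q}ᶜ, hqc.isOpen_compl⟩
    have h2 := (LeadBrown.isZero_rd_iff V.ι _).1
      (isZero_rd_rpush_of_disjoint π V ((DCoh.tildeD (CommRingCat.of k)).obj Z) fun z hz => by
        exact absurd (congrArg π.base (Subsingleton.elim z default)) hz) n hn
    rw [Scheme.Opens.range_ι] at h2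
    exact hw (congrArg j.base (not_not.1 h2))
  obtain ⟨κ⟩ := nonempty_rpushCompIso π j
  have hc : Nonempty (DCoh.Rpush π ⋙ DCoh.Rpush j ≅ DCoh.Rpush i) := by
    subst hi; exact ⟨κ⟩
  exact ⟨yonedaAdjIso adj ω ≪≫ yonedaFFIso (DRing.restrictD ψ) ffT ω ≪≫
    Functor.isoWhiskerRight (NatIso.op σ) _ ≪≫ Functor.isoWhiskerLeft G.op (yoneda.mapIso e) ≪≫
    yonedaFFIso G ffR _ ≪≫
    (yonedaCompIso (G ⋙ DCoh.Rpush j) ((restrictRpushAdj j).unit.app E) fun Z =>
      bijective_comp_unit j hx (Set.singleton_subset_iff.2 ⟨q, rfl⟩) E _ (hsupp Z)).symm ≪≫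
    Functor.isoWhiskerRight (NatIso.op (Functor.associator _ _ _ ≪≫
      Functor.isoWhiskerLeft (DCoh.tildeD (CommRingCat.of k)) hc.some).symm) _⟩

end Chart

section Adjoint

variable {X Y : Scheme.{u}} {f : X ⟶ Y} [DCoh.HasRpush f] {hf : DCoh.RpushPreservesQCoh f}
  {a : DCoh.DQCoh Y ⥤ DCoh.DQCoh X} (adjf : DCoh.RpushQ f hf ⊣ a)

include adjf in
/-- The adjunction on objects pushed forward to `X`. -/
theorem nonempty_adjYoneda {B' : Type*} [Category B'] (H : B' ⥤ DCoh.D X) (hH : ∀ Z, DCoh.IsQCohD (H.obj Z))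
    (K : DCoh.DQCoh Y) :
    Nonempty (H.op ⋙ yoneda.obj (a.obj K).obj ≅ (H ⋙ DCoh.Rpush f).op ⋙ yoneda.obj K.obj) :=
  ⟨NatIso.ofComponents (fun Z => (LeadBrown.homEquivD adjf _ (hH Z.unop) K).toIso)
    (fun {Z Z'} g => by ext φ; exact LeadBrown.homEquivD_comp adjf (hH Z.unop) (hH Z'.unop) (H.map g.unop) K φ)⟩

end Adjoint

section Point

variable {X Y : Scheme.{u}} {f : X ⟶ Y} [DCoh.HasRpush f] {hf : DCoh.RpushPreservesQCoh f}
  {a : DCoh.DQCoh Y ⥤ DCoh.DQCoh X} (adjf : DCoh.RpushQ f hf ⊣ a)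
variable {A B k : Type u} [CommRing A] [CommRing B] [Field k] (c : Spec (CommRingCat.of A) ⟶ Y) [IsOpenImmersion c]
  (j : Spec (CommRingCat.of B) ⟶ X) [IsOpenImmersion j] (ψ : B →+* k) (ψ' : A →+* k)
  [PreservesFiniteLimits (tilde.functor (CommRingCat.of A))] [PreservesFiniteLimits (tilde.functor (CommRingCat.of B))]
  [PreservesFiniteLimits (tilde.functor (CommRingCat.of k))]

include adjf in
/-- `RHom_B(k, a(K)|_B) ≅ RHom_A(k, K|_A)` at a closed point over a closed point. -/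
theorem nonempty_iso_point [QuasiCompact (Spec.map (CommRingCat.ofHom ψ) ≫ j)]
    [QuasiSeparated (Spec.map (CommRingCat.ofHom ψ) ≫ j)]
    (hx : IsClosed ({j.base ((Spec.map (CommRingCat.ofHom ψ)).base default)} : Set X))
    (hy : IsClosed ({c.base ((Spec.map (CommRingCat.ofHom ψ')).base default)} : Set Y))
    (hsq : (Spec.map (CommRingCat.ofHom ψ) ≫ j) ≫ f = Spec.map (CommRingCat.ofHom ψ') ≫ c)
    (K : DCoh.DQCoh Y) (ωB : Dual.D B) (eB : (DCoh.tildeD (CommRingCat.of B)).obj ωB ≅ (rd j).obj (a.obj K).obj)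
    (ωA : Dual.D A) (eA : (DCoh.tildeD (CommRingCat.of A)).obj ωA ≅ (rd c).obj K.obj)
    {R : Dual.D B ⥤ Dual.D k} (adj : DRing.restrictD ψ ⊣ R)
    {R' : Dual.D A ⥤ Dual.D k} (adj' : DRing.restrictD ψ' ⊣ R') : Nonempty (R.obj ωB ≅ R'.obj ωA) := by
  let i := Spec.map (CommRingCat.ofHom ψ) ≫ j
  let l := Spec.map (CommRingCat.ofHom ψ') ≫ c
  haveI := QCohD.hasRpush i
  haveI := QCohD.hasRpush l
  haveI := QCohD.hasRpush (i ≫ f)
  obtain ⟨u₁⟩ := nonempty_chartYoneda j ψ hx i rfl (a.obj K).obj ωB eB adj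
  obtain ⟨u₂⟩ := nonempty_chartYoneda c ψ' hy l rfl K.obj ωA eA adj'
  obtain ⟨u₃⟩ := nonempty_adjYoneda adjf (DCoh.tildeD (CommRingCat.of k) ⋙ DCoh.Rpush i)
    (fun Z => QCohD.isQCohD_rpush i (QCohD.isQCohD_tildeD (CommRingCat.of k) Z)) K
  obtain ⟨κ⟩ := nonempty_rpushCompIso i f
  have hc : Nonempty (DCoh.Rpush i ⋙ DCoh.Rpush f ≅ DCoh.Rpush l) := by
    have h' : Nonempty (DCoh.Rpush (i ≫ f) ≅ DCoh.Rpush l) := by
      simp only [show i ≫ f = l from hsq]; exact ⟨Iso.refl _⟩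
    exact ⟨κ ≪≫ h'.some⟩
  exact ⟨Yoneda.fullyFaithful.preimageIso (u₁ ≪≫ u₃ ≪≫
    Functor.isoWhiskerRight (NatIso.op (Functor.associator _ _ _ ≪≫
      Functor.isoWhiskerLeft (DCoh.tildeD (CommRingCat.of k)) hc.some).symm) _ ≪≫ u₂.symm)⟩

end Point

end Groth.Agent.H4RepDual
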