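import Groth.Agent.LeadBrown.BaseChange
import Groth.Agent.H16Derived.MVTri.Basic

/-!
# Maps from objects supported in a closed subset of an open
-/

set_option autoImplicit false
set_option linter.style.haveILetI false
set_option linter.unusedSectionVars false
set_option backward.isDefEq.respectTransparency false

universe u

open CategoryTheory CategoryTheory.Limits AlgebraicGeometry CategoryTheory.Pretriangulated TopologicalSpace

attribute [local instance] HasDerivedCategory.standard

namespace Groth.Agent.H4RepDual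

open Groth.Agent.H16Derived Groth.Agent.H16Derived.Thomason Groth.Agent.H16Derived.KFlat.Stalk

variable {X W : Scheme.{u}} (j : W ⟶ X) [IsOpenImmersion j] [DCoh.HasRpush j]

/-- Direct images restrict to zero on opens missing the image. -/
theorem isZero_rd_rpush_of_disjoint {Z Y : Scheme.{u}} (p : Z ⟶ Y) [DCoh.HasRpush p] (V : Y.Opens)
    (G : DCoh.D Z) (h : ∀ z : Z, p.base z ∈ V → ∀ i, z ∉ CohB1.support (DCoh.HD G i)) :
    IsZero ((rd V.ι).obj ((DCoh.Rpush p).obj G)) := by
  haveI := QCohD.hasRpush (p ∣_ V)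
  haveI := QCohD.hasRpush V.ι
  haveI := QCohD.hasRpush (p ⁻¹ᵁ V).ι
  refine LeadBrown.isZero_rd_rpush (p := p) V.ι (p ⁻¹ᵁ V).ι ?_ ?_
  · rw [Scheme.Opens.range_ι, Scheme.Opens.range_ι]; rfl
  · refine (LeadBrown.isZero_rd_iff _ _).2 fun i z hz hzV => ?_
    rw [Scheme.Opens.range_ι] at hzV
    exact h z hzV i hz

/-- An object supported off `W` receives no nonzero maps from direct images supported in a closed subset of `W`. -/
theorem hom_eq_zero_of_supp {T : Set X} (hT : IsClosed T) (hTW : T ⊆ Set.range j.base) (G : DCoh.D W)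
    (hG : ∀ w : W, j.base w ∉ T → ∀ i, w ∉ CohB1.support (DCoh.HD G i)) (C : DCoh.D X)
    (hC : IsZero ((rd j).obj C)) (φ : (DCoh.Rpush j).obj G ⟶ C) : φ = 0 := by
  let V : X.Opens := ⟨Tᶜ, hT.isOpen_compl⟩
  haveI := QCohD.hasRpush V.ι
  haveI := isIso_restrictRpushAdj_counit V.ι
  let a := restrictRpushAdj V.ι
  have hG' : IsZero ((rd V.ι).obj ((DCoh.Rpush j).obj G)) :=
    isZero_rd_rpush_of_disjoint j V G fun w hw => hG w hw
  have hη : IsIso (a.unit.app C) := by
    obtain ⟨K, i, h, hTr, hK⟩ := MVTri.exists_fibre a C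
    refine (Triangle.isZero₁_iff_isIso₂ _ hTr).1 ?_
    have h1 := (LeadBrown.isZero_rd_iff V.ι K).1 hK
    have h2 : IsZero ((rd j).obj K) := by
      have h3 : IsZero ((rd j).obj ((DCoh.Rpush V.ι).obj ((rd V.ι).obj C))) := by
        refine (LeadBrown.isZero_rd_iff j _).2 ((suppIn_compl_iff j.opensRange _).2 ?_)
        refine isZero_rd_rpush_of_disjoint V.ι j.opensRange _ fun z hz k hk => ?_
        exact (LeadBrown.isZero_rd_iff j C).1 hC k
          ((mem_support_rd V.ι C k z).1 hk) hz
      exact Triangle.isZero₁_of_isZero₂₃ _ ((rd j).map_distinguished _ hTr) hC h3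
    refine isZero_of_suppIn_empty fun k x hx => ?_
    have hxV := h1 k hx
    rw [Scheme.Opens.range_ι] at hxV
    exact (LeadBrown.isZero_rd_iff j K).1 h2 k hx (hTW (not_not.1 hxV))
  rw [← cancel_mono (a.unit.app C), zero_comp]
  exact MVTri.hom_to_rightAdjoint_eq_zero a hG' _

variable {T : Set X} (hT : IsClosed T) (hTW : T ⊆ Set.range j.base) (E : DCoh.D X)

include hT hTW in
/-- `Hom(G, E|_W) = Hom(Rj_* G, E)` for `G` supported in a closed subset of `X` contained in `W`. -/
theorem bijective_comp_unit (G : DCoh.D W) (hG : ∀ w : W, j.base w ∉ T → ∀ i, w ∉ CohB1.support (DCoh.HD G i)) :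
    Function.Bijective fun φ : (DCoh.Rpush j).obj G ⟶ E => φ ≫ (restrictRpushAdj j).unit.app E := by
  haveI := isIso_restrictRpushAdj_counit j
  obtain ⟨K, i, h, hTr, hK⟩ := MVTri.exists_fibre (restrictRpushAdj j) E
  refine ⟨fun φ φ' he => sub_eq_zero.1 ?_, fun g => ?_⟩
  · obtain ⟨k, hk⟩ := Triangle.coyoneda_exact₂ _ hTr (φ - φ') (by
      show (φ - φ') ≫ (restrictRpushAdj j).unit.app E = 0
      rw [Preadditive.sub_comp]; exact sub_eq_zero.2 he)
    rw [hk, hom_eq_zero_of_supp j hT hTW G hG K hK k, zero_comp]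
  · obtain ⟨φ, hφ⟩ := Triangle.coyoneda_exact₃ _ hTr g
      (hom_eq_zero_of_supp j hT hTW G hG _ (MVTri.isZero_map_shift hK 1) _)
    exact ⟨φ, hφ.symm⟩

end Groth.Agent.H4RepDual
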