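import Groth.Agent.LeadBrown.TwMu
import Groth.Agent.H16Derived.QCohD.Equiv

/-!
# Scalars through tilde and on single objects
-/

set_option autoImplicit false
set_option linter.style.haveILetI false
set_option backward.isDefEq.respectTransparency false

universe u

open CategoryTheory CategoryTheory.Limits AlgebraicGeometry Opposite

attribute [local instance] HasDerivedCategory.standard

namespace Groth.Agent.H4RepDual

open Groth.Agent.LeadBrown (mu muC mu_Q mu_naturality mu_shift)
open Groth.Agent.H17.ExtRegVanish (mulEnd res mulEnd_natural)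

variable (A : Type u) [CommRing A]

/-- `A → Γ(Spec A, O)`. -/
noncomputable def rhoS : A →+* Γ(Spec (CommRingCat.of A), ⊤) := (Scheme.ΓSpecIso (CommRingCat.of A)).inv.hom

theorem tilde_map_smul_id (a : A) (M : ModuleCat.{u} A) :
    (tilde.functor (CommRingCat.of A)).map (a • 𝟙 M) =
      mulEnd (rhoS A a) ((tilde.functor (CommRingCat.of A)).obj M) := by
  refine ((tilde.adjunction (R := CommRingCat.of A)).homEquiv M _).injective ?_
  rw [Adjunction.homEquiv_unit, Adjunction.homEquiv_unit]
  refine ((tilde.adjunction (R := CommRingCat.of A)).unit.naturality (a • 𝟙 M)).symm.trans ?_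
  refine ModuleCat.hom_ext (LinearMap.ext fun m => ?_)
  show ((tilde.adjunction (R := CommRingCat.of A)).unit.app M).hom (a • m) = _
  rw [map_smul]
  show res (X := Spec (CommRingCat.of A)) ⊤ (rhoS A a) •
      (show Γ((tilde.functor (CommRingCat.of A)).obj M, ⊤) from
        ((tilde.adjunction (R := CommRingCat.of A)).unit.app M).hom m) = _
  show _ = (ModuleCat.Hom.hom ((moduleSpecΓFunctor (R := CommRingCat.of A)).map
    (mulEnd (rhoS A a) ((tilde.functor (CommRingCat.of A)).obj M)))) _
  rfl

theorem tildeD_map_smul_id [PreservesFiniteLimits (tilde.functor (CommRingCat.of A))] (a : A)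
    (K : DerivedCategory (ModuleCat.{u} A)) :
    (DCoh.tildeD (CommRingCat.of A)).map (a • 𝟙 K) = (mu (rhoS A a)).app ((DCoh.tildeD (CommRingCat.of A)).obj K) := by
  obtain ⟨C, ⟨e⟩⟩ : ∃ C : CochainComplex (ModuleCat.{u} A) ℤ, Nonempty (DerivedCategory.Q.obj C ≅ K) :=
    ⟨_, ⟨DerivedCategory.Q.objObjPreimageIso K⟩⟩
  let fac := (tilde.functor (CommRingCat.of A)).mapDerivedCategoryFactors
  have key : (DCoh.tildeD (CommRingCat.of A)).map (a • 𝟙 (DerivedCategory.Q.obj C)) =
      (mu (rhoS A a)).app ((DCoh.tildeD (CommRingCat.of A)).obj (DerivedCategory.Q.obj C)) := by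
    have h1 : a • 𝟙 (DerivedCategory.Q.obj C) = DerivedCategory.Q.map (a • 𝟙 C) := by
      rw [Functor.map_smul, DerivedCategory.Q.map_id]
    rw [h1, ← cancel_mono (fac.hom.app C)]
    refine (fac.hom.naturality (a • 𝟙 C)).trans (Eq.trans ?_ (mu_naturality _ (fac.hom.app C)))
    refine congrArg (fac.hom.app C ≫ ·) (Eq.trans ?_ (mu_Q _ _).symm)
    exact congrArg DerivedCategory.Q.map
      (HomologicalComplex.Hom.ext (funext fun i => tilde_map_smul_id A a (C.X i)))
  rw [← cancel_epi ((DCoh.tildeD (CommRingCat.of A)).map e.hom), mu_naturality, ← key, ← Functor.map_comp,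
    ← Functor.map_comp, Linear.comp_smul, Category.comp_id, Linear.smul_comp, Category.id_comp]

variable {A}

theorem mu_inD {X : Scheme.{u}} (r : Γ(X, ⊤)) (M : X.Modules) :
    (mu r).app (DCoh.inD X M) = (DerivedCategory.singleFunctor X.Modules 0).map (mulEnd r M) := by
  let c := (DerivedCategory.singleFunctorIsoCompQ X.Modules 0)
  rw [← cancel_mono (c.hom.app M)]
  refine Eq.trans ?_ (c.hom.naturality (mulEnd r M)).symm
  refine (mu_naturality r (c.hom.app M)).symm.trans (congrArg (c.hom.app M ≫ ·) ((mu_Q r _).trans ?_))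
  refine congrArg DerivedCategory.Q.map (HomologicalComplex.from_single_hom_ext ?_)
  rw [show (muC r ((CochainComplex.singleFunctor X.Modules 0).obj M)).f 0 = mulEnd r _ from rfl]
  refine (cancel_mono (HomologicalComplex.singleObjXSelf (ComplexShape.up ℤ) 0 M).hom).1 ?_
  rw [← mulEnd_natural]
  exact (HomologicalComplex.single_map_f_self _ _ _ =≫ _).trans (by simp) |>.symm

theorem mu_inD_shift {X : Scheme.{u}} (r : Γ(X, ⊤)) (M : X.Modules) (n : ℤ) :
    (mu r).app ((DCoh.inD X M)⟦n⟧) = ((DerivedCategory.singleFunctor X.Modules 0).map (mulEnd r M))⟦n⟧' := by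
  rw [mu_shift, mu_inD]

end Groth.Agent.H4RepDual
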